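import Mathlib

/-!
Orders of semisimple matrices over finite fields.
-/

set_option autoImplicit false

namespace CfsgLib.SpecLin

open Polynomial

/-- A polynomial all of whose prime factors divide `b` divides a power of `b`. -/
theorem exists_dvd_pow_of_prime_dvd {α : Type*} [CommMonoidWithZero α] [UniqueFactorizationMonoid α]
    {a b : α} (ha : a ≠ 0) (h : ∀ g : α, Prime g → g ∣ a → g ∣ b) : ∃ k : ℕ, a ∣ b ^ k := by
  revert h ha
  refine UniqueFactorizationMonoid.induction_on_prime a (fun h => absurd rfl h)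
    (fun u hu _ _ => ⟨0, hu.dvd⟩) ?_
  intro c g hc hg ih _ h
  obtain ⟨k, hk⟩ := ih hc fun g' hg' hd => h g' hg' (hd.mul_left g)
  refine ⟨k + 1, ?_⟩
  rw [pow_succ']
  exact mul_dvd_mul (h g hg (dvd_mul_right g c)) hk

/-- An irreducible polynomial other than a multiple of `X` divides `X ^ (q^d - 1) - 1`. -/
theorem irreducible_dvd_X_pow_sub_one {F : Type*} [Field F] [Fintype F] {g : F[X]}
    (hg : Irreducible g) (hX : ¬ g ∣ X) :
    g ∣ X ^ (Fintype.card F ^ g.natDegree - 1) - 1 := by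
  have : Fact (Irreducible g) := ⟨hg⟩
  let pb := AdjoinRoot.powerBasis hg.ne_zero
  have : Module.Finite F (AdjoinRoot g) := pb.finite
  have : Finite (AdjoinRoot g) := Module.finite_of_finite F
  have : Fintype (AdjoinRoot g) := Fintype.ofFinite _
  have hcard : Fintype.card (AdjoinRoot g) = Fintype.card F ^ g.natDegree := by
    rw [Module.card_eq_pow_finrank (K := F), pb.finrank, AdjoinRoot.powerBasis_dim]
  have hne : AdjoinRoot.root g ≠ 0 := by
    rw [← AdjoinRoot.mk_X]
    exact fun h => hX (AdjoinRoot.mk_eq_zero.1 h)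
  rw [← AdjoinRoot.mk_eq_zero]
  simp only [map_sub, map_pow, AdjoinRoot.mk_X, map_one]
  rw [← hcard, FiniteField.pow_card_sub_one_eq_one _ hne, sub_self]

/-- A matrix with `x ^ m = 1`, `m` prime to the characteristic, satisfies `x ^ L = 1` as soon as
`q ^ d - 1 ∣ L` for every `1 ≤ d ≤ n`. -/
theorem semisimple_pow_eq_one {F : Type*} [Field F] [Fintype F] {n : ℕ}
    (x : Matrix (Fin n) (Fin n) F) {m L : ℕ} (hm : (m : F) ≠ 0) (hx : x ^ m = 1)
    (hL : ∀ d, 1 ≤ d → d ≤ n → Fintype.card F ^ d - 1 ∣ L) : x ^ L = 1 := by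
  have hsep : (X ^ m - 1 : F[X]).Separable := X_pow_sub_one_separable_iff.2 hm
  have hdvd : minpoly F x ∣ X ^ m - 1 := minpoly.dvd F x (by simp [hx])
  have hsq : Squarefree (minpoly F x) := (hsep.of_dvd hdvd).squarefree
  have hne : minpoly F x ≠ 0 := minpoly.ne_zero (Matrix.isIntegral x)
  have hm0 : m ≠ 0 := by rintro rfl; simp at hm
  obtain ⟨k, hk⟩ := exists_dvd_pow_of_prime_dvd (b := (X ^ L - 1 : F[X])) hne fun g hg hgd => by
    have hnX : ¬ g ∣ X := by
      intro hX
      have h1 : g ∣ X ^ m := hX.trans (dvd_pow_self _ hm0)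
      have h2 : g ∣ (1 : F[X]) := by
        have := dvd_sub h1 (hgd.trans hdvd)
        simpa using this
      exact hg.not_isUnit (isUnit_of_dvd_one h2)
    have h0 : 1 ≤ g.natDegree := hg.irreducible.natDegree_pos
    have hn : g.natDegree ≤ n := by
      have h3 := natDegree_le_of_dvd (hgd.trans (Matrix.minpoly_dvd_charpoly x))
        x.charpoly_monic.ne_zero
      simpa [Matrix.charpoly_natDegree_eq_dim] using h3
    exact (irreducible_dvd_X_pow_sub_one hg.irreducible hnX).trans
      (by obtain ⟨c, hc⟩ := hL _ h0 hn; rw [hc]; exact pow_one_sub_dvd_pow_mul_sub_one X _ c)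
  have h4 : minpoly F x ∣ X ^ L - 1 := hsq.isRadical k _ hk
  obtain ⟨c, hc⟩ := h4
  have h5 := congrArg (aeval x) hc
  simpa [sub_eq_zero] using h5

/-- A squarefree polynomial prime to `X` of degree at most `n` divides `X ^ L - 1`. -/
theorem squarefree_dvd_X_pow_sub_one {F : Type*} [Field F] [Fintype F] {f : F[X]} {n L : ℕ}
    (hf : Squarefree f) (h0 : f.eval 0 ≠ 0) (hdeg : f.natDegree ≤ n)
    (hL : ∀ d, 1 ≤ d → d ≤ n → Fintype.card F ^ d - 1 ∣ L) : f ∣ X ^ L - 1 := by
  have hne : f ≠ 0 := by rintro rfl; simp at h0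
  obtain ⟨k, hk⟩ := exists_dvd_pow_of_prime_dvd (b := (X ^ L - 1 : F[X])) hne fun g hg hgd => by
    have hnX : ¬ g ∣ X := fun hX => by
      have h1 : Associated g X := hg.associated_of_dvd Polynomial.prime_X hX
      have h2 : (X : F[X]) ∣ f := h1.symm.dvd.trans hgd
      exact h0 (by rw [← Polynomial.coeff_zero_eq_eval_zero]; exact X_dvd_iff.1 h2)
    have h0 : 1 ≤ g.natDegree := hg.irreducible.natDegree_pos
    have hn : g.natDegree ≤ n := (natDegree_le_of_dvd hgd hne).trans hdeg
    exact (irreducible_dvd_X_pow_sub_one hg.irreducible hnX).trans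
      (by obtain ⟨c, hc⟩ := hL _ h0 hn; rw [hc]; exact pow_one_sub_dvd_pow_mul_sub_one X _ c)
  exact hf.isRadical k _ hk

end CfsgLib.SpecLin
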