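import Mathlib

/-!
Sourour's factorisation: a nonscalar invertible matrix is similar to `L * U` with `L` lower
unitriangular and `U` upper triangular with any prescribed diagonal of the right product.
-/

set_option autoImplicit false

namespace CfsgLib.SpecLin

open Matrix

variable {F : Type*} [Field F] {n : ℕ}

/-- A matrix of size `n+1` given by its corner, first row, first column and the rest. -/
def blk (a : F) (r c : Fin n → F) (S : Matrix (Fin n) (Fin n) F) :
    Matrix (Fin (n + 1)) (Fin (n + 1)) F :=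
  Matrix.of (Fin.cases (Fin.cons a r : Fin (n + 1) → F) fun i => Fin.cons (c i) (S i))

theorem blk_eta (M : Matrix (Fin (n + 1)) (Fin (n + 1)) F) :
    M = blk (M 0 0) (fun j => M 0 j.succ) (fun i => M i.succ 0) (M.submatrix Fin.succ Fin.succ) := by
  ext i j
  cases i using Fin.cases <;> cases j using Fin.cases <;> simp [blk]

theorem blk_mul (a a' : F) (r c r' c' : Fin n → F) (S S' : Matrix (Fin n) (Fin n) F) :
    blk a r c S * blk a' r' c' S' =
      blk (a * a' + r ⬝ᵥ c') (a • r' + r ᵥ* S') (a' • c + S *ᵥ c') (vecMulVec c r' + S * S') := by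
  ext i j
  cases i using Fin.cases <;> cases j using Fin.cases <;>
    simp [blk, Matrix.mul_apply, Fin.sum_univ_succ, dotProduct, Matrix.vecMul, Matrix.mulVec,
      Matrix.vecMulVec_apply, mul_comm]

theorem det_blk_zero_row (a : F) (c : Fin n → F) (S : Matrix (Fin n) (Fin n) F) :
    (blk a 0 c S).det = a * S.det := by
  have hsub : (blk a 0 c S).submatrix Fin.succ Fin.succ = S := by ext i j; simp [blk]
  have h00 : blk a 0 c S 0 0 = a := rfl
  rw [Matrix.det_succ_row_zero, Fin.sum_univ_succ, Finset.sum_eq_zero, add_zero]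
  · simp [Fin.succAbove_zero, hsub, h00]
  · intro j _; simp [blk]

theorem det_blk_zero_col (a : F) (r : Fin n → F) (S : Matrix (Fin n) (Fin n) F) :
    (blk a r 0 S).det = a * S.det := by
  have : (blk a r 0 S)ᵀ = blk a 0 r Sᵀ := by
    ext i j
    cases i using Fin.cases <;> cases j using Fin.cases <;> simp [blk]
  rw [← det_transpose, this, det_blk_zero_row, det_transpose]

theorem blk_mul_unipotent (a : F) (r c φ : Fin n → F) (D : Matrix (Fin n) (Fin n) F) :
    blk 1 φ 0 1 * blk (a - φ ⬝ᵥ c) (r + a • φ - φ ᵥ* (D + vecMulVec c φ)) c (D + vecMulVec c φ) =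
      blk a r c D * blk 1 φ 0 1 := by
  rw [blk_mul, blk_mul]
  congr 1 <;> simp [add_comm]

/-- `A` is similar to `M`. -/
def Similar (A M : Matrix (Fin n) (Fin n) F) : Prop :=
  ∃ P : Matrix (Fin n) (Fin n) F, P.det ≠ 0 ∧ P * A = M * P

theorem Similar.trans {A B C : Matrix (Fin n) (Fin n) F} (h : Similar A B) (h' : Similar B C) :
    Similar A C := by
  obtain ⟨P, hP, hPA⟩ := h
  obtain ⟨Q, hQ, hQB⟩ := h'
  exact ⟨Q * P, by simp [hP, hQ], by rw [mul_assoc, hPA, ← mul_assoc, hQB, mul_assoc]⟩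

theorem Similar.symm {A B : Matrix (Fin n) (Fin n) F} (h : Similar A B) : Similar B A := by
  obtain ⟨P, hP, hPA⟩ := h
  have hu : IsUnit P.det := hP.isUnit
  refine ⟨P⁻¹, by simp [Matrix.det_nonsing_inv, hP], ?_⟩
  calc P⁻¹ * B = P⁻¹ * (B * P) * P⁻¹ := by
        rw [mul_assoc, mul_assoc B P, Matrix.mul_nonsing_inv P hu, mul_one]
    _ = A * P⁻¹ := by rw [← hPA, ← mul_assoc, Matrix.nonsing_inv_mul P hu, one_mul]

theorem Similar.det_eq {A B : Matrix (Fin n) (Fin n) F} (h : Similar A B) : A.det = B.det := by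
  obtain ⟨P, hP, hPA⟩ := h
  have := congrArg Matrix.det hPA
  rw [det_mul, det_mul, mul_comm B.det] at this
  exact mul_left_cancel₀ hP this

theorem Similar.not_scalar {A B : Matrix (Fin n) (Fin n) F} (h : Similar A B)
    (hA : ∀ s : F, A ≠ s • 1) : ∀ s : F, B ≠ s • 1 := by
  rintro s rfl
  obtain ⟨P, hP, hPA⟩ := h
  refine hA s ?_
  apply ((Matrix.isUnit_iff_isUnit_det P).2 hP.isUnit).mul_left_cancel
  rw [hPA, Algebra.smul_mul_assoc, one_mul, Algebra.mul_smul_comm, mul_one]

theorem similar_shift (a : F) (r c φ : Fin n → F) (D : Matrix (Fin n) (Fin n) F) :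
    Similar (blk a r c D)
      (blk (a - φ ⬝ᵥ c) (r + a • φ - φ ᵥ* (D + vecMulVec c φ)) c (D + vecMulVec c φ)) :=
  Similar.symm ⟨blk 1 φ 0 1, by rw [det_blk_zero_col]; simp, blk_mul_unipotent a r c φ D⟩

theorem exists_offdiag_of_not_scalar (A : Matrix (Fin (n + 1)) (Fin (n + 1)) F)
    (hA : ∀ s : F, A ≠ s • 1) : ∃ B, Similar A B ∧ ∃ i j, i ≠ j ∧ B i j ≠ 0 := by
  by_cases h : ∃ i j, i ≠ j ∧ A i j ≠ 0
  · exact ⟨A, ⟨1, by simp, by simp⟩, h⟩
  push Not at h
  obtain ⟨i, hi⟩ : ∃ i, A i i ≠ A 0 0 := by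
    by_contra hc
    push Not at hc
    refine hA (A 0 0) (Matrix.ext fun i j => ?_)
    rcases eq_or_ne i j with rfl | hij
    · simp [hc]
    · simp [Matrix.one_apply, hij, h i j hij]
  have hi0 : i ≠ 0 := by rintro rfl; exact hi rfl
  refine ⟨transvection i 0 1 * A * transvection i 0 (-1), ⟨transvection i 0 1,
    by simp [det_transvection_of_ne _ _ hi0], ?_⟩, i, 0, hi0, ?_⟩
  · rw [mul_assoc, mul_assoc, transvection_mul_transvection_same _ _ hi0]
    simp
  · rw [mul_transvection_apply_same _ _ _ _ _, transvection_mul_apply_same,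
      transvection_mul_apply_same, h i 0 hi0, h 0 i hi0.symm]
    simp only [zero_add, one_mul, mul_zero, add_zero, neg_mul]
    intro hz
    exact hi (by linear_combination -hz)

theorem exists_similar_col_ne_zero (A : Matrix (Fin (n + 1)) (Fin (n + 1)) F)
    (hA : ∀ s : F, A ≠ s • 1) : ∃ a r c D, c ≠ 0 ∧ Similar A (blk a r c D) := by
  obtain ⟨B, hB, i, j, hij, hne⟩ := exists_offdiag_of_not_scalar A hA
  let σ := Equiv.swap (0 : Fin (n + 1)) j
  have hsim : Similar B (B.submatrix σ σ) := by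
    refine ⟨(σ.permMatrix F), ?_, ?_⟩
    · rw [Matrix.det_permutation]
      rcases Int.units_eq_one_or (Equiv.Perm.sign σ) with h | h <;> simp [h]
    · ext x y
      rw [Equiv.Perm.permMatrix, PEquiv.toMatrix_toPEquiv_mul, PEquiv.mul_toMatrix_toPEquiv]
      simp
  obtain ⟨i', hi'⟩ : ∃ i' : Fin n, i'.succ = σ i :=
    Fin.exists_succ_eq.2 fun h => hij (σ.injective (by rw [h, Equiv.swap_apply_right]))
  refine ⟨_, _, _, _, ?_, (hB.trans hsim).trans (by rw [← blk_eta (B.submatrix σ σ)]; exact ⟨1, by simp, by simp⟩)⟩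
  intro h0
  have := congrFun h0 i'
  simp only [Matrix.submatrix_apply, Pi.zero_apply, hi', σ, Equiv.swap_apply_self,
    Equiv.swap_apply_left] at this
  exact hne this

theorem exists_dotProduct_eq (c : Fin n → F) (hc : c ≠ 0) (t : F) : ∃ φ, φ ⬝ᵥ c = t := by
  obtain ⟨i, hi⟩ := Function.ne_iff.1 hc
  exact ⟨Pi.single i (t / c i), by rw [single_dotProduct, div_mul_cancel₀ _ hi]⟩

theorem exists_ne_zero_dotProduct_eq_zero {m : ℕ} (c : Fin (m + 2) → F) :
    ∃ φ, φ ≠ 0 ∧ φ ⬝ᵥ c = 0 := by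
  by_cases h0 : c 0 = 0
  · exact ⟨Pi.single 0 1, Function.ne_iff.2 ⟨0, by simp⟩, by simp [h0]⟩
  · refine ⟨Pi.single 0 (c 1) - Pi.single 1 (c 0), Function.ne_iff.2 ⟨1, ?_⟩, ?_⟩
    · simp [h0]
    · rw [sub_dotProduct, single_dotProduct, single_dotProduct]; ring

/-- With a nonzero first column, the corner can be prescribed and the Schur complement kept
nonscalar. -/
theorem exists_good_corner (A : Matrix (Fin (n + 1)) (Fin (n + 1)) F) (hA : ∀ s : F, A ≠ s • 1)
    (hdet : A.det ≠ 0) (δ : F) (hδ : δ ≠ 0) :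
    ∃ r c S, Similar A (blk δ r c (δ⁻¹ • vecMulVec c r + S)) ∧ (2 ≤ n → ∀ s : F, S ≠ s • 1) := by
  obtain ⟨a, r, c, D, hc, hsim⟩ := exists_similar_col_ne_zero A hA
  obtain ⟨φ, hφ⟩ := exists_dotProduct_eq c hc (a - δ)
  replace hsim := hsim.trans (similar_shift a r c φ D)
  rw [hφ, sub_sub_cancel] at hsim
  generalize hr : r + a • φ - φ ᵥ* (D + vecMulVec c φ) = r' at hsim
  generalize hD : D + vecMulVec c φ = D' at hsim
  obtain ⟨S, hS⟩ : ∃ S, D' = δ⁻¹ • vecMulVec c r' + S := ⟨D' - δ⁻¹ • vecMulVec c r', by abel⟩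
  subst hS
  by_cases hgood : 2 ≤ n → ∀ s : F, S ≠ s • 1
  · exact ⟨r', c, S, hsim, hgood⟩
  push Not at hgood
  obtain ⟨hn, σ, rfl⟩ := hgood
  obtain ⟨m, rfl⟩ : ∃ m, n = m + 2 := ⟨n - 2, by omega⟩
  obtain ⟨ψ, hψ, hψc⟩ := exists_ne_zero_dotProduct_eq_zero c
  have hσ : σ ≠ 0 := by
    rintro rfl
    refine hdet ?_
    rw [hsim.det_eq]
    have hfac : blk δ r' c (δ⁻¹ • vecMulVec c r' + (0 : F) • 1) =
        blk 1 0 (δ⁻¹ • c) 1 * blk δ r' 0 0 := by
      rw [blk_mul]
      congr 1 <;> simp [smul_smul, hδ, smul_vecMulVec]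
    rw [hfac, det_mul, det_blk_zero_col (S := 0)]
    simp [Matrix.det_zero]
  replace hsim := hsim.trans (similar_shift δ r' c ψ _)
  rw [hψc, sub_zero] at hsim
  set D'' := δ⁻¹ • vecMulVec c r' + σ • (1 : Matrix (Fin (m + 2)) (Fin (m + 2)) F) + vecMulVec c ψ
  set r'' := r' + δ • ψ - ψ ᵥ* D'' with hr''
  refine ⟨r'', c, D'' - δ⁻¹ • vecMulVec c r'', by rw [add_sub_cancel]; exact hsim, fun _ s hs => ?_⟩
  have hrs : r'' = r' + (δ - σ) • ψ := by
    ext j
    simp [hr'', D'', Matrix.vecMul_add, Matrix.vecMul_smul, Matrix.vecMul_one,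
      Matrix.vecMul_vecMulVec, hψc, sub_smul]
    ring
  obtain ⟨i, hi⟩ := Function.ne_iff.1 hc
  obtain ⟨j, hj⟩ := Function.ne_iff.1 hψ
  have key : D'' - δ⁻¹ • vecMulVec c r'' = σ • 1 + (σ * δ⁻¹) • vecMulVec c ψ := by
    ext x y
    simp [D'', hrs, Matrix.vecMulVec_apply, Matrix.one_apply]
    field_simp
    ring
  rw [key] at hs
  have hsσ : s = σ := by
    have h := congrFun (congrArg (fun M => M *ᵥ c) hs) i
    simp [Matrix.add_mulVec, Matrix.smul_mulVec, Matrix.vecMulVec_mulVec, hψc] at h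
    rcases h with h | h
    · exact h.symm
    · exact absurd h hi
  subst hsσ
  have h := congrFun (congrFun hs i) j
  rw [Matrix.add_apply, Matrix.smul_apply, Matrix.smul_apply, Matrix.vecMulVec_apply,
    add_eq_left, smul_eq_mul] at h
  rcases mul_eq_zero.1 h with h | h
  · exact mul_ne_zero hσ (inv_ne_zero hδ) h
  · exact mul_ne_zero hi hj h

/-- **Sourour**: a nonscalar invertible matrix is similar to `L * U` with `L` lower unitriangular and
`U` upper triangular with prescribed diagonal. -/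
theorem exists_similar_lu : ∀ {n : ℕ} (A : Matrix (Fin (n + 1)) (Fin (n + 1)) F),
    (n = 0 ∨ ∀ s : F, A ≠ s • 1) → A.det ≠ 0 → ∀ d : Fin (n + 1) → F, ∏ i, d i = A.det →
    ∃ L U : Matrix (Fin (n + 1)) (Fin (n + 1)) F, Similar A (L * U) ∧ (∀ i j, i < j → L i j = 0) ∧ (∀ i, L i i = 1) ∧
      (∀ i j, j < i → U i j = 0) ∧ ∀ i, U i i = d i := by
  intro n
  induction n with
  | zero =>
    intro A _ _ d hd
    refine ⟨1, A, ⟨1, by simp, by simp⟩, fun i j h => absurd h (by omega), by simp,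
      fun i j h => absurd h (by omega), fun i => ?_⟩
    simp [Fin.fin_one_eq_zero i] at hd ⊢
    exact hd.symm
  | succ n ih =>
    intro A hA hdet d hd
    replace hA := hA.resolve_left (Nat.succ_ne_zero n)
    have hd0 : d 0 ≠ 0 := fun h => hdet (by rw [← hd, Fin.prod_univ_succ, h, zero_mul])
    obtain ⟨r, c, S, hsim, hS⟩ := exists_good_corner A hA hdet (d 0) hd0
    have hfac : blk (d 0) r c ((d 0)⁻¹ • vecMulVec c r + S) =
        blk 1 0 ((d 0)⁻¹ • c) 1 * blk (d 0) r 0 S := by
      rw [blk_mul]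
      congr 1 <;> simp [smul_smul, hd0, smul_vecMulVec]
    have hdetS : S.det = ∏ i : Fin (n + 1), d i.succ := by
      have h := hsim.det_eq
      rw [hfac, det_mul, det_blk_zero_row, det_blk_zero_col, det_one, ← hd,
        Fin.prod_univ_succ] at h
      exact (mul_left_cancel₀ hd0 (by simpa using h)).symm
    have hS0 : S.det ≠ 0 := by
      intro h0
      apply hdet
      rw [hsim.det_eq, hfac, det_mul, det_blk_zero_col, h0]
      simp
    obtain ⟨L, U, ⟨Q, hQ, hQS⟩, hL, hL1, hU, hUd⟩ :=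
      ih S (Nat.eq_zero_or_pos n |>.imp id fun h => hS (by omega)) hS0 _ hdetS.symm
    have hQu : IsUnit Q.det := hQ.isUnit
    refine ⟨blk 1 0 ((d 0)⁻¹ • (Q *ᵥ c)) L, blk (d 0) (r ᵥ* Q⁻¹) 0 U,
      hsim.trans ⟨blk 1 0 0 Q, by rw [det_blk_zero_col]; simpa using hQ, ?_⟩, ?_, ?_, ?_, ?_⟩
    · rw [blk_mul, blk_mul, blk_mul]
      congr 1
      · simp
      · simp [Matrix.vecMul_vecMul, Matrix.nonsing_inv_mul Q hQu]
      · simp [smul_smul, hd0]
      · simp only [zero_vecMul, vecMulVec_zero, zero_add, mul_add, Matrix.mul_smul,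
          Matrix.mul_vecMulVec, hQS, mulVec_zero, add_zero, smul_zero, zero_vecMulVec]
        rw [add_mul, smul_vecMulVec, smul_mul_assoc, Matrix.vecMulVec_mul, Matrix.vecMul_vecMul,
          Matrix.nonsing_inv_mul Q hQu, Matrix.vecMul_one]
    · intro i j hij
      cases i using Fin.cases with
      | zero => cases j using Fin.cases with
        | zero => exact absurd hij (lt_irrefl _)
        | succ j => simp [blk]
      | succ i => cases j using Fin.cases with
        | zero => exact absurd hij (by simp)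
        | succ j => simpa [blk] using hL i j (Fin.succ_lt_succ_iff.1 hij)
    · intro i
      cases i using Fin.cases with
      | zero => simp [blk]
      | succ i => simpa [blk] using hL1 i
    · intro i j hij
      cases i using Fin.cases with
      | zero => exact absurd hij (by simp)
      | succ i => cases j using Fin.cases with
        | zero => simp [blk]
        | succ j => simpa [blk] using hU i j (Fin.succ_lt_succ_iff.1 hij)
    · intro i
      cases i using Fin.cases with
      | zero => simp [blk]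
      | succ i => simpa [blk] using hUd i

/-- A triangular matrix with distinct diagonal entries is similar to that diagonal. -/
theorem similar_diagonal_of_charpoly (M : Matrix (Fin n) (Fin n) F) (d : Fin n → F)
    (hd : Function.Injective d) (hM : M.charpoly = ∏ i, (Polynomial.X - Polynomial.C (d i))) :
    Similar M (Matrix.diagonal d) := by
  have hev : ∀ i, Module.End.HasEigenvalue (Matrix.toLin' M) (d i) := fun i => by
    rw [Module.End.hasEigenvalue_iff_isRoot_charpoly, Matrix.charpoly_toLin', hM,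
      Polynomial.IsRoot, Polynomial.eval_prod]
    exact Finset.prod_eq_zero (Finset.mem_univ i) (by simp)
  choose v hv using fun i => (hev i).exists_hasEigenvector
  have hli := Module.End.eigenvectors_linearIndependent' (Matrix.toLin' M) d hd v hv
  let V : Matrix (Fin n) (Fin n) F := Matrix.of fun i j => v j i
  have hVu : IsUnit V.det := by
    rw [← Matrix.isUnit_iff_isUnit_det, ← Matrix.linearIndependent_cols_iff_isUnit]
    exact hli
  refine Similar.symm ⟨V, hVu.ne_zero, ?_⟩
  ext i j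
  rw [Matrix.mul_diagonal]
  have := congrFun (hv j).apply_eq_smul i
  simp only [Matrix.toLin'_apply, Matrix.mulVec, dotProduct, Pi.smul_apply, smul_eq_mul] at this
  simp [V, Matrix.mul_apply, this, mul_comm]

end CfsgLib.SpecLin
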