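import Mathlib
import Cfsg.Agent.Lib.SpecLin.SemisimpleOrder
import Cfsg.Agent.Lib.SpecLin.Sourour

/-!
SL_2 and PSL_2 over finite fields by traces.
-/

set_option autoImplicit false

namespace CfsgLib.SpecLin.SLTwo

open Matrix

variable {F : Type*} [Field F]

local notation "SL2" => Matrix.SpecialLinearGroup (Fin 2) F
local notation "M2" => Matrix (Fin 2) (Fin 2) F

/-- Cayley–Hamilton. -/
theorem sq_eq (M : M2) (h : M.det = 1) : M * M = M.trace • M - 1 := by
  rw [Matrix.det_fin_two] at h
  ext i j
  fin_cases i <;> fin_cases j <;> simp [Matrix.mul_apply, Matrix.trace_fin_two]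
  · linear_combination -h
  · ring
  · ring
  · linear_combination -h

/-- Companion matrix of `X² - tX + 1`. -/
def comp (t : F) : M2 := !![0, -1; 1, t]

theorem det_comp (t : F) : (comp t).det = 1 := by simp [comp, Matrix.det_fin_two]

theorem trace_comp (t : F) : (comp t).trace = t := by simp [comp, Matrix.trace_fin_two]

theorem exists_eigenfree {M : M2} (hM : ∀ s : F, M ≠ s • 1) :
    ∃ v : Fin 2 → F, v 0 * (M *ᵥ v) 1 - v 1 * (M *ᵥ v) 0 ≠ 0 := by
  by_contra h
  push Not at h
  have h0 := h ![1, 0]
  have h1 := h ![0, 1]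
  have h2 := h ![1, 1]
  simp [Matrix.mulVec, dotProduct] at h0 h1 h2
  refine hM (M 0 0) (Matrix.ext fun i j => ?_)
  fin_cases i <;> fin_cases j <;> simp [h0, h1]
  linear_combination h2 - h0 + h1

theorem similar_comp {M : M2} (hd : M.det = 1) (hM : ∀ s : F, M ≠ s • 1) :
    Similar M (comp M.trace) := by
  obtain ⟨v, hv⟩ := exists_eigenfree hM
  let w := M *ᵥ v
  refine Similar.symm ⟨!![v 0, w 0; v 1, w 1], ?_, ?_⟩
  · rw [Matrix.det_fin_two]
    simp only [Matrix.of_apply, Matrix.cons_val', Matrix.cons_val_zero, Matrix.cons_val_one,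
      Matrix.cons_val_fin_one]
    intro h
    exact hv (by linear_combination h)
  · rw [Matrix.det_fin_two] at hd
    ext i j
    fin_cases i <;> fin_cases j <;>
      simp [comp, w, Matrix.mul_apply, Matrix.mulVec, dotProduct, Matrix.trace_fin_two]
    · linear_combination v 0 * hd
    · linear_combination v 1 * hd

theorem similar_of_trace_eq {M N : M2} (hdM : M.det = 1) (hdN : N.det = 1)
    (hM : ∀ s : F, M ≠ s • 1) (hN : ∀ s : F, N ≠ s • 1) (h : M.trace = N.trace) : Similar M N := by
  have := similar_comp hdN hN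
  rw [← h] at this
  exact (similar_comp hdM hM).trans this.symm

theorem trace_eq_of_similar {M N : M2} (h : Similar M N) : M.trace = N.trace := by
  obtain ⟨P, hP, hPM⟩ := h
  calc M.trace = (P⁻¹ * (P * M)).trace := by
        rw [← mul_assoc, Matrix.nonsing_inv_mul P hP.isUnit, one_mul]
    _ = ((P * P⁻¹) * N).trace := by rw [hPM, Matrix.trace_mul_cycle', mul_assoc]
    _ = N.trace := by rw [Matrix.mul_nonsing_inv P hP.isUnit, one_mul]

section finite

variable [Fintype F]

theorem odd_card (h2 : (2 : F) ≠ 0) : Fintype.card F % 2 = 1 := by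
  apply FiniteField.odd_card_of_char_ne_two
  intro hc
  have := ringChar.charP F
  rw [hc] at this
  exact h2 (CharP.cast_eq_zero F 2)

theorem exists_sq_of_char_two (h2 : (2 : F) = 0) (d : F) : ∃ b, b ^ 2 = d := by
  have hc : CharP F 2 := CharTwo.of_one_ne_zero_of_two_eq_zero one_ne_zero h2
  obtain ⟨b, hb⟩ := FiniteField.isSquare_of_char_two (ringChar.eq F 2) d
  exact ⟨b, by rw [hb, sq]⟩

/-- The norm form of `X² - tX + 1` represents everything outside the degenerate case. -/
theorem exists_form_eq (t : F) (ht : (2 : F) = 0 ∨ t ^ 2 ≠ 4) (d : F) :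
    ∃ α β : F, α ^ 2 + t * α * β + β ^ 2 = d := by
  rcases eq_or_ne (2 : F) 0 with h2 | h2
  · obtain ⟨b, hb⟩ := exists_sq_of_char_two h2 d
    exact ⟨0, b, by simp [hb]⟩
  · replace ht := ht.resolve_left h2
    have hc : (1 : F) - t ^ 2 / 4 ≠ 0 := by
      intro h
      have h4 : (4 : F) ≠ 0 := by
        have := mul_ne_zero h2 h2
        norm_num at this ⊢
        exact this
      apply ht
      field_simp at h
      linear_combination -h
    obtain ⟨a, b, hab⟩ := FiniteField.exists_root_sum_quadratic
      (f := (Polynomial.X ^ 2 : Polynomial F))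
      (g := Polynomial.C (1 - t ^ 2 / 4) * Polynomial.X ^ 2 + Polynomial.C (-d))
      (by simp) (by
        rw [Polynomial.degree_add_eq_left_of_degree_lt] <;> rw [Polynomial.degree_C_mul hc]
        · simp
        · simp only [Polynomial.degree_X_pow]
          exact lt_of_le_of_lt Polynomial.degree_C_le (by norm_num)) (odd_card h2)
    refine ⟨b, a - t * b / 2, ?_⟩
    simp at hab
    have h4 : (4 : F) = 2 * 2 := by norm_num
    rw [h4] at hab
    field_simp at hab ⊢
    linear_combination hab

/-- Regular semisimple (and char 2 unipotent) matrices of the same trace are SL-conjugate. -/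
theorem isConj_of_trace_eq {M N : SL2} (ht : (2 : F) = 0 ∨ (M : M2).trace ^ 2 ≠ 4)
    (hM : ∀ s : F, (M : M2) ≠ s • 1) (hN : ∀ s : F, (N : M2) ≠ s • 1)
    (h : (M : M2).trace = (N : M2).trace) : IsConj M N := by
  obtain ⟨R, hR, hRM⟩ := similar_of_trace_eq M.prop N.prop hM hN h
  obtain ⟨α, β, hαβ⟩ := exists_form_eq (M : M2).trace ht R.det⁻¹
  have hdet : ((α • (N : M2) + β • 1) * R).det = 1 := by
    rw [det_mul]
    have hN' := N.prop
    rw [Matrix.det_fin_two] at hN'
    have : (α • (N : M2) + β • 1).det = R.det⁻¹ := by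
      rw [← hαβ, h, Matrix.det_fin_two, Matrix.trace_fin_two]
      simp [Matrix.one_apply]
      linear_combination α ^ 2 * hN'
    rw [this, inv_mul_cancel₀ hR]
  let w : SL2 := ⟨(α • (N : M2) + β • 1) * R, hdet⟩
  have hw : w * M = N * w := by
    apply Subtype.ext
    rw [Matrix.SpecialLinearGroup.coe_mul, Matrix.SpecialLinearGroup.coe_mul]
    change (α • (N : M2) + β • 1) * R * M = N * ((α • (N : M2) + β • 1) * R)
    rw [mul_assoc, hRM, ← mul_assoc, ← mul_assoc]
    congr 1
    simp [mul_add, add_mul]
  exact isConj_iff.2 ⟨w, by rw [hw, mul_inv_cancel_right]⟩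

theorem mem_center_of_scalar {M : SL2} {s : F} (h : (M : M2) = s • 1) :
    M ∈ Subgroup.center SL2 := by
  refine Subgroup.mem_center_iff.2 fun w => Subtype.ext ?_
  rw [Matrix.SpecialLinearGroup.coe_mul, Matrix.SpecialLinearGroup.coe_mul, h]
  simp

theorem mem_center_iff' {M : SL2} :
    M ∈ Subgroup.center SL2 ↔ (M : M2) = 1 ∨ (M : M2) = -1 := by
  constructor
  · intro h
    obtain ⟨r, hr, hrM⟩ := Matrix.SpecialLinearGroup.mem_center_iff.1 h
    simp [Fintype.card_fin] at hr
    rcases hr with rfl | rfl
    · left; simp [← hrM]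
    · right; rw [← hrM]; simp [← Matrix.diagonal_neg]
  · rintro (h | h)
    · exact mem_center_of_scalar (s := 1) (by simp [h])
    · exact mem_center_of_scalar (s := -1) (by simp [h])

theorem sq_eq_one_of_trace_eq_zero {M : SL2} (h : (M : M2).trace = 0) :
    (QuotientGroup.mk M : Matrix.ProjectiveSpecialLinearGroup (Fin 2) F) ^ 2 = 1 := by
  rw [← QuotientGroup.mk_pow, QuotientGroup.eq_one_iff, mem_center_iff']
  right
  rw [sq, Matrix.SpecialLinearGroup.coe_mul, sq_eq _ M.prop, h]
  simp

theorem pow_char_mem_center (p : ℕ) [Fact p.Prime] [CharP F p] {M : SL2}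
    (h : (M : M2).trace ^ 2 = 4) : M ^ p ∈ Subgroup.center SL2 := by
  obtain ⟨c, hc, hct⟩ : ∃ c : F, c * c = 1 ∧ (M : M2).trace = 2 * c := by
    rcases sq_eq_sq_iff_eq_or_eq_neg.1 (show (M : M2).trace ^ 2 = 2 ^ 2 by rw [h]; norm_num) with h | h
    · exact ⟨1, by simp, by simp [h]⟩
    · exact ⟨-1, by simp, by simp [h]⟩
  have hN : ((M : M2) - c • 1) * ((M : M2) - c • 1) = 0 := by
    rw [sub_mul, mul_sub, sq_eq _ M.prop, hct]
    simp only [Algebra.mul_smul_comm, mul_one, Algebra.smul_mul_assoc, one_mul, smul_sub, smul_smul, hc,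
      one_smul]
    rw [two_mul, add_smul]
    abel
  have hp2 : 2 ≤ p := (Fact.out : p.Prime).two_le
  have hpow : ((M : M2) - c • 1) ^ p = 0 := by
    obtain ⟨k, rfl⟩ : ∃ k, p = 2 + k := ⟨p - 2, by omega⟩
    rw [pow_add, sq, hN, zero_mul]
  have hcomm : Commute (M : M2) (c • 1) := (Commute.one_right _).smul_right c
  rw [sub_pow_char_of_commute _ hcomm, sub_eq_zero, smul_pow, one_pow] at hpow
  exact mem_center_of_scalar (s := c ^ p) (by rw [Matrix.SpecialLinearGroup.coe_pow, hpow])

theorem pow_card_sq_sub_one {M : SL2} (h : (M : M2).trace ^ 2 ≠ 4) :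
    M ^ (Fintype.card F ^ 2 - 1) = 1 := by
  set t := (M : M2).trace with ht
  let f : Polynomial F := Polynomial.X ^ 2 - Polynomial.C t * Polynomial.X + 1
  have hsep : f.Separable := by
    rw [Polynomial.separable_def']
    have hne : t ^ 2 - 4 ≠ 0 := sub_ne_zero.2 h
    refine ⟨Polynomial.C (-4 / (t ^ 2 - 4)),
      Polynomial.C (1 / (t ^ 2 - 4)) * (2 * Polynomial.X - Polynomial.C t), ?_⟩
    have hd : Polynomial.derivative f = 2 * Polynomial.X - Polynomial.C t := by
      simp [f, one_add_one_eq_two]; exact Polynomial.C_ofNat 2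
    rw [hd]
    have h4 : (Polynomial.C (1 / (t ^ 2 - 4)) : Polynomial F) * (Polynomial.C t ^ 2 - 4) = 1 := by
      rw [← Polynomial.C_pow, ← Polynomial.C_ofNat, ← Polynomial.C_sub, ← Polynomial.C_mul,
        one_div, inv_mul_cancel₀ hne, Polynomial.C_1]
    rw [show -4 / (t ^ 2 - 4) = -4 * (1 / (t ^ 2 - 4)) by ring, Polynomial.C_mul, Polynomial.C_neg,
      Polynomial.C_ofNat]
    simp only [f]
    linear_combination h4
  have hroot : Polynomial.aeval (M : M2) f = 0 := by
    simp [f, Algebra.algebraMap_eq_smul_one, sq, sq_eq _ M.prop, ← ht]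
  obtain ⟨c, hc⟩ := squarefree_dvd_X_pow_sub_one (n := 2) (L := Fintype.card F ^ 2 - 1) hsep.squarefree
    (by simp [f]) (by simp only [f]; compute_degree) (fun d hd1 hd2 => by
      interval_cases d
      · rw [pow_one]; exact Nat.sub_one_dvd_pow_sub_one _ _
      · exact dvd_rfl)
  have := congrArg (Polynomial.aeval (M : M2)) hc
  simp [hroot, sub_eq_zero] at this
  exact Subtype.ext (by simpa using this)

/-- Split characteristic polynomial: order dividing `q - 1`. -/
theorem pow_card_sub_one_of_root {M : SL2} (h : (M : M2).trace ^ 2 ≠ 4) {r : F}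
    (hr : r * r - (M : M2).trace * r + 1 = 0) : M ^ (Fintype.card F - 1) = 1 := by
  set t := (M : M2).trace with ht
  let f : Polynomial F := (Polynomial.X - Polynomial.C r) * (Polynomial.X - Polynomial.C (t - r))
  have hne : r ≠ t - r := fun he => h (by
    have htr : t = 2 * r := by linear_combination -he
    rw [htr] at hr ⊢
    linear_combination (-4 : F) * hr)
  have hr0 : r ≠ 0 := by rintro rfl; simp at hr
  have hr0' : t - r ≠ 0 := fun he => by
    have h1 : t = r := by linear_combination he
    rw [h1] at hr; simp at hr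
  have hroot : Polynomial.aeval (M : M2) f = 0 := by
    have hf : f = Polynomial.X ^ 2 - Polynomial.C t * Polynomial.X + 1 := by
      have : (Polynomial.C r * Polynomial.C (t - r) : Polynomial F) = 1 := by
        rw [← Polynomial.C_mul, ← Polynomial.C_1]
        congr 1
        linear_combination -hr
      simp only [f]
      rw [sub_mul, mul_sub, mul_sub, this, Polynomial.C_sub]
      ring
    rw [hf]
    simp [Algebra.algebraMap_eq_smul_one, sq, sq_eq _ M.prop, ← ht]
  have hdvd : f ∣ Polynomial.X ^ (Fintype.card F - 1) - 1 := by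
    refine (Polynomial.isCoprime_X_sub_C_of_isUnit_sub (sub_ne_zero.2 hne).isUnit).mul_dvd ?_ ?_ <;>
      rw [Polynomial.dvd_iff_isRoot] <;>
      simp [FiniteField.pow_card_sub_one_eq_one, hr0, hr0']
  obtain ⟨c, hc⟩ := hdvd
  have := congrArg (Polynomial.aeval (M : M2)) hc
  simp [hroot, sub_eq_zero] at this
  exact Subtype.ext (by simpa using this)

/-- No root: order dividing `q + 1`. -/
theorem pow_card_add_one_of_no_root {M : SL2} (hr : ∀ r : F, r * r - (M : M2).trace * r + 1 ≠ 0) :
    M ^ (Fintype.card F + 1) = 1 := by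
  set t := (M : M2).trace with ht
  let f : Polynomial F := Polynomial.X ^ 2 - Polynomial.C t * Polynomial.X + 1
  have hdeg : f.natDegree = 2 := by simp only [f]; compute_degree!
  have hirr : Irreducible f := by
    rw [Polynomial.irreducible_iff_roots_eq_zero_of_degree_le_three (by omega) (by omega),
      Multiset.eq_zero_iff_forall_notMem]
    intro a ha
    have := Polynomial.isRoot_of_mem_roots ha
    simp [f] at this
    exact hr a (by rw [← this]; ring)
  have hroot : Polynomial.aeval (M : M2) f = 0 := by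
    simp [f, Algebra.algebraMap_eq_smul_one, sq, sq_eq _ M.prop, ← ht]
  have : Fact (Irreducible f) := ⟨hirr⟩
  let r := AdjoinRoot.root f
  let ι : F →+* AdjoinRoot f := AdjoinRoot.of f
  have hrr : r * r - ι t * r + 1 = 0 := by
    have := AdjoinRoot.eval₂_root f
    simp [f, Polynomial.eval₂_add, sq] at this
    exact this
  have hq : r ^ Fintype.card F ≠ r := by
    intro hfix
    have : r ∈ Set.range ι := by
      by_contra hn
      classical
      let P : Polynomial (AdjoinRoot f) := Polynomial.X ^ Fintype.card F - Polynomial.X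
      have hP : P ≠ 0 := FiniteField.X_pow_card_sub_X_ne_zero _ Fintype.one_lt_card
      have hsub : (insert r ((Finset.univ : Finset F).image ι)).val ⊆ P.roots := by
        intro z hz
        rw [Finset.mem_val, Finset.mem_insert, Finset.mem_image] at hz
        rw [Polynomial.mem_roots hP]
        rcases hz with rfl | ⟨a, -, rfl⟩
        · simp [P, hfix]
        · simp [P, ← map_pow, FiniteField.pow_card]
      have h1 := Polynomial.card_le_degree_of_subset_roots hsub
      rw [Finset.card_insert_of_notMem, Finset.card_image_of_injective _ ι.injective,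
        Finset.card_univ, FiniteField.X_pow_card_sub_X_natDegree_eq _ Fintype.one_lt_card] at h1
      · omega
      · simp only [Finset.mem_image]
        rintro ⟨a, -, ha⟩
        exact hn ⟨a, ha⟩
    obtain ⟨a, ha⟩ := this
    apply hr a
    apply ι.injective
    rw [map_add, map_sub, map_mul, map_mul, ha, map_one, map_zero]
    exact hrr
  obtain ⟨p, hp⟩ := CharP.exists F
  have hprime : Fact p.Prime := ⟨CharP.char_is_prime F p⟩
  have : CharP (AdjoinRoot f) p := charP_of_injective_ringHom ι.injective p
  obtain ⟨k, -, hcard⟩ := FiniteField.card F p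
  have hconj : r ^ Fintype.card F = ι t - r := by
    have h1 := congrArg (fun x => x ^ Fintype.card F) hrr
    simp only [hcard, add_pow_char_pow, sub_pow_char_pow, mul_pow, one_pow] at h1
    rw [← hcard, ← map_pow, FiniteField.pow_card, zero_pow Fintype.card_ne_zero] at h1
    have : (r ^ Fintype.card F - r) * (r ^ Fintype.card F - (ι t - r)) = 0 := by
      linear_combination h1 - hrr
    exact sub_eq_zero.1 ((mul_eq_zero.1 this).resolve_left (sub_ne_zero.2 hq))
  have hdvd : f ∣ Polynomial.X ^ (Fintype.card F + 1) - 1 := by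
    rw [← AdjoinRoot.mk_eq_zero]
    simp only [map_sub, map_pow, AdjoinRoot.mk_X, map_one]
    change r ^ (Fintype.card F + 1) - 1 = 0
    rw [pow_succ, hconj]
    linear_combination -hrr
  obtain ⟨c, hc⟩ := hdvd
  have := congrArg (Polynomial.aeval (M : M2)) hc
  simp [hroot, sub_eq_zero] at this
  exact Subtype.ext (by simpa using this)

theorem exists_trace_sq_iff {F : Type*} [Field F] {M : Matrix (Fin 2) (Fin 2) F} {s : F}
    (h : M = s • 1) (hd : M.det = 1) : M.trace ^ 2 = 4 := by
  subst h
  rw [Matrix.det_smul, Matrix.det_one, mul_one, Fintype.card_fin] at hd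
  rw [Matrix.trace_smul, Matrix.trace_one, Fintype.card_fin, smul_eq_mul]
  push_cast
  linear_combination (4 : F) * hd

end finite

end CfsgLib.SpecLin.SLTwo
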