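import Mathlib
import Cfsg.Agent.Classical.SLBasic
import Cfsg.Agent.Lib.SL2Tori.Basic
import Cfsg.Agent.Lib.SpecLin.SLTwoTrace

/-!
Conjugacy class sizes in `SL_2` and `PSL_2` of a finite field.
-/

set_option autoImplicit false

namespace CfsgLib.SpecLin.SLTwo

open Matrix

theorem index_centralizer_eq_ncard {G : Type*} [Group G] (g : G) :
    (Subgroup.centralizer ({g} : Set G)).index = {h : G | IsConj g h}.ncard := by
  have h1 : (MulAction.stabilizer (ConjAct G) g).index = (MulAction.orbit (ConjAct G) g).ncard :=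
    MulAction.index_stabilizer (ConjAct G) g
  have h2 : MulAction.orbit (ConjAct G) g = {h : G | IsConj g h} := by
    ext h
    rw [ConjAct.mem_orbit_conjAct, Set.mem_setOf_eq, isConj_comm]
  rw [← h2, ← h1, ConjAct.stabilizer_eq_centralizer]
  rfl

variable {F : Type*} [Field F]

local notation "SL2" => Matrix.SpecialLinearGroup (Fin 2) F
local notation "M2" => Matrix (Fin 2) (Fin 2) F
local notation "PSL2" => Matrix.ProjectiveSpecialLinearGroup (Fin 2) F

variable [Fintype F]

theorem mk_eq_mk_iff {M N : SL2} :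
    (QuotientGroup.mk M : PSL2) = QuotientGroup.mk N ↔ (N : M2) = M ∨ (N : M2) = -(M : M2) := by
  rw [QuotientGroup.eq, mem_center_iff']
  constructor
  · rintro (h | h)
    · left
      have : N = M := by
        have h' : M⁻¹ * N = 1 := Subtype.ext h
        rw [inv_mul_eq_one] at h'
        exact h'.symm
      rw [this]
    · right
      have h' : (M : M2) * ((M⁻¹ * N : SL2) : M2) = N := by
        rw [← Matrix.SpecialLinearGroup.coe_mul, mul_inv_cancel_left]
      rw [← h', h, mul_neg, mul_one]
  · rintro (h | h)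
    · left
      rw [show N = M from Subtype.ext h, inv_mul_cancel, Matrix.SpecialLinearGroup.coe_one]
    · right
      rw [Matrix.SpecialLinearGroup.coe_mul, h, mul_neg, ← Matrix.SpecialLinearGroup.coe_mul,
        inv_mul_cancel, Matrix.SpecialLinearGroup.coe_one]

theorem class_psl (X : SL2) :
    {h : PSL2 | IsConj (QuotientGroup.mk X : PSL2) h} =
      (fun M : SL2 => (QuotientGroup.mk M : PSL2)) '' {M | IsConj X M} := by
  ext h
  constructor
  · intro hh
    obtain ⟨c, rfl⟩ := isConj_iff.1 hh
    obtain ⟨w, rfl⟩ := QuotientGroup.mk_surjective c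
    exact ⟨w * X * w⁻¹, isConj_iff.2 ⟨w, rfl⟩, by simp⟩
  · rintro ⟨M, hM, rfl⟩
    obtain ⟨w, rfl⟩ := isConj_iff.1 hM
    exact isConj_iff.2 ⟨QuotientGroup.mk w, by simp⟩

theorem trace_eq_of_isConj {X M : SL2} (h : IsConj X M) :
    (M : M2).trace = (X : M2).trace := by
  obtain ⟨w, rfl⟩ := isConj_iff.1 h
  exact CfsgLib.SL2Tori.trace_conj w X

/-- If `0` is not the trace, the quotient map is injective on a class. -/
theorem ncard_class_psl {X : SL2} (h : (2 : F) * (X : M2).trace ≠ 0 ∨ (2 : F) = 0) :
    {g : PSL2 | IsConj (QuotientGroup.mk X : PSL2) g}.ncard = {M | IsConj X M}.ncard := by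
  rw [class_psl, Set.InjOn.ncard_image]
  intro M hM N hN hMN
  have tM := trace_eq_of_isConj hM
  have tN := trace_eq_of_isConj hN
  rcases mk_eq_mk_iff.1 hMN with e | e
  · exact (Subtype.ext e).symm
  · rcases h with h | h
    · exfalso
      apply h
      rw [e, Matrix.trace_neg, tM] at tN
      linear_combination -tN
    · refine (Subtype.ext ?_).symm
      rw [e]
      ext i j
      simp only [Matrix.neg_apply]
      linear_combination -((M : M2) i j) * h

/-- A matrix of trace `t` and determinant one as a triple. -/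
noncomputable def traceEquiv (t : F) :
    {M : SL2 // (M : M2).trace = t} ≃ (Σ a : F, {p : F × F // p.1 * p.2 = a * (t - a) - 1}) where
  toFun M := ⟨(M.1 : M2) 0 0, ((M.1 : M2) 0 1, (M.1 : M2) 1 0), by
    have h := M.1.prop
    rw [Matrix.det_fin_two] at h
    have ht := M.2
    rw [Matrix.trace_fin_two] at ht
    linear_combination ((M.1 : M2) 0 0) * ht - h⟩
  invFun v := ⟨⟨!![v.1, v.2.1.1; v.2.1.2, t - v.1], by
    rw [Matrix.det_fin_two_of]; linear_combination -v.2.2⟩, by simp [Matrix.trace_fin_two]⟩
  left_inv M := by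
    have ht := M.2
    rw [Matrix.trace_fin_two] at ht
    apply Subtype.ext; apply Subtype.ext
    ext i j
    fin_cases i <;> fin_cases j <;> simp
    linear_combination -ht
  right_inv v := by
    obtain ⟨a, ⟨b, c⟩, h⟩ := v
    simp

theorem card_mul_eq (d : F) [Decidable (d = 0)] :
    Nat.card {p : F × F // p.1 * p.2 = d} + 1 =
      Fintype.card F + (if d = 0 then Fintype.card F else 0) := by
  classical
  have hq : 1 < Fintype.card F := Fintype.one_lt_card
  split_ifs with hd
  · subst hd
    rw [Nat.card_eq_fintype_card, Fintype.card_subtype]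
    have hset : (Finset.univ.filter fun p : F × F => p.1 * p.2 = 0) =
        ({0} : Finset F) ×ˢ Finset.univ ∪ (Finset.univ.erase (0 : F)) ×ˢ ({0} : Finset F) := by
      ext ⟨a, b⟩
      simp [mul_eq_zero]
      by_cases ha : a = 0 <;> simp [ha, eq_comm]
    rw [hset, Finset.card_union_of_disjoint, Finset.card_product, Finset.card_product]
    · simp; omega
    · rw [Finset.disjoint_left]
      rintro ⟨a, b⟩ h1 h2
      simp at h1 h2
      simp_all
      exact h2.1 h2.2.symm
  · have : Nat.card {p : F × F // p.1 * p.2 = d} = Nat.card Fˣ := Nat.card_congr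
      { toFun := fun p => Units.mk0 p.1.1 fun h => hd (by rw [← p.2, h, zero_mul])
        invFun := fun u => ⟨(u, d / u), mul_div_cancel₀ d (Units.ne_zero u)⟩
        left_inv := fun p => by
          obtain ⟨⟨a, b⟩, h⟩ := p
          have ha : a ≠ 0 := fun e => hd (by rw [← h]; simp [e])
          refine Subtype.ext (Prod.ext rfl ?_)
          simp only [Units.val_mk0]
          rw [← h]; field_simp
        right_inv := fun u => Units.ext rfl }
    rw [this, Cfsg.Agent.Classical.natCard_units_field]
    omega

/-- The roots of `a² - t a + 1`. -/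
noncomputable def roots (t : F) : Finset F := by
  classical exact Finset.univ.filter fun a => a * (t - a) - 1 = 0

/-- Number of elements of given trace. -/
theorem ncard_trace (t : F) :
    {M : SL2 | (M : M2).trace = t}.ncard + Fintype.card F =
      Fintype.card F * Fintype.card F + Fintype.card F * (roots t).card := by
  classical
  rw [← Nat.card_coe_set_eq, Set.coe_setOf, Nat.card_congr (traceEquiv t), Nat.card_sigma]
  have h := Finset.sum_congr (rfl : (Finset.univ : Finset F) = _)
    fun a _ => card_mul_eq (a * (t - a) - 1)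
  simp only [Finset.sum_add_distrib, Finset.sum_const, Finset.card_univ, smul_eq_mul, mul_one] at h
  rw [h, ← Finset.sum_filter, Finset.sum_const, smul_eq_mul]
  unfold roots
  ring

theorem card_sl_two : Nat.card SL2 = Fintype.card F * (Fintype.card F ^ 2 - 1) := by
  have h := Cfsg.Agent.Classical.card_sl_mul (F := F) 2 (by norm_num)
  rw [Fin.prod_univ_two] at h
  simp only [Fin.val_zero, Fin.val_one, pow_zero, pow_one] at h
  have hq : 1 < Fintype.card F := Fintype.one_lt_card
  apply Nat.eq_of_mul_eq_mul_left (show 0 < Fintype.card F - 1 by omega)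
  rw [h, show Fintype.card F ^ 2 - Fintype.card F = Fintype.card F * (Fintype.card F - 1) by
    rw [sq, Nat.mul_sub, mul_one]]
  ring

theorem roots_cases {t : F} (h : (2 : F) = 0 ∧ t ≠ 0 ∨ (2 : F) ≠ 0 ∧ t ^ 2 ≠ 4) :
    (roots t).card = 0 ∨ (roots t).card = 2 := by
  classical
  rcases Finset.eq_empty_or_nonempty (roots t) with he | ⟨r, hr⟩
  · simp [he]
  simp only [roots, Finset.mem_filter, Finset.mem_univ, true_and] at hr
  right
  have hne : r ≠ t - r := by
    intro e
    have ht : t = 2 * r := by linear_combination -e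
    rcases h with ⟨h2, h0⟩ | ⟨_, h4⟩
    · exact h0 (by rw [ht, h2, zero_mul])
    · apply h4
      rw [ht] at hr ⊢
      linear_combination 4 * hr
  rw [show roots t = {r, t - r} from ?_, Finset.card_pair hne]
  ext a
  simp only [roots, Finset.mem_filter, Finset.mem_univ, true_and, Finset.mem_insert,
    Finset.mem_singleton]
  constructor
  · intro ha
    rcases mul_eq_zero.1 (show (a - r) * (a + r - t) = 0 by linear_combination hr - ha) with h | h
    · exact Or.inl (sub_eq_zero.1 h)
    · exact Or.inr (by linear_combination h)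
  · rintro (rfl | rfl)
    · exact hr
    · linear_combination hr

theorem roots_of_root {t r : F} (hr : r * (t - r) - 1 = 0) : (roots t).card ≠ 0 := by
  classical
  exact Finset.card_ne_zero.2 ⟨r, by simp [roots, hr]⟩

/-- The SL class of a regular semisimple element, or an involution in characteristic two. -/
theorem class_sl {X : SL2} (hX : ∀ s : F, (X : M2) ≠ s • 1)
    (ht : (2 : F) = 0 ∨ (X : M2).trace ^ 2 ≠ 4) :
    {M | IsConj X M} =
      {M : SL2 | (M : M2).trace = (X : M2).trace ∧ ∀ s : F, (M : M2) ≠ s • 1} := by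
  ext M
  constructor
  · intro h
    refine ⟨trace_eq_of_isConj h, fun s hs => hX s ?_⟩
    obtain ⟨w, hw⟩ := isConj_iff.1 h.symm
    have hc := Subgroup.mem_center_iff.1 (mem_center_of_scalar hs) w
    rw [← hw, hc, mul_inv_cancel_right, hs]
  · rintro ⟨h1, h2⟩
    exact isConj_of_trace_eq ht hX h2 h1.symm

/-- Class sizes of regular semisimple elements of `SL_2`. -/
theorem ncard_class_semisimple {X : SL2}
    (h : (2 : F) = 0 ∧ (X : M2).trace ≠ 0 ∨ (2 : F) ≠ 0 ∧ (X : M2).trace ^ 2 ≠ 4) :
    ((roots (X : M2).trace).card = 2 ∧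
        {M | IsConj X M}.ncard = Fintype.card F * (Fintype.card F + 1)) ∨
      ((roots (X : M2).trace).card = 0 ∧
        {M | IsConj X M}.ncard = Fintype.card F * (Fintype.card F - 1)) := by
  have hns : ∀ M : SL2, (M : M2).trace = (X : M2).trace → ∀ s : F, (M : M2) ≠ s • 1 := by
    intro M hM s hs
    have hd := M.prop
    rw [hs, Matrix.det_smul, Matrix.det_one, mul_one, Fintype.card_fin] at hd
    rw [hs] at hM
    have ht : (X : M2).trace = 2 * s := by rw [← hM]; simp [mul_comm]
    rcases h with ⟨h2, h0⟩ | ⟨_, h4⟩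
    · exact h0 (by rw [ht, h2, zero_mul])
    · exact h4 (by rw [ht]; linear_combination 4 * hd)
  have hset : {M | IsConj X M} = {M : SL2 | (M : M2).trace = (X : M2).trace} := by
    rw [class_sl (hns X rfl) (h.elim (fun h => Or.inl h.1) (fun h => Or.inr h.2))]
    ext M
    exact ⟨fun h => h.1, fun h => ⟨h, hns M h⟩⟩
  have hq : 1 < Fintype.card F := Fintype.one_lt_card
  have hN := ncard_trace (X : M2).trace
  rw [hset]
  rcases roots_cases h with e | e
  · right
    rw [e] at hN
    refine ⟨e, ?_⟩
    rw [Nat.mul_sub, mul_one]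
    omega
  · left
    rw [e] at hN
    refine ⟨e, ?_⟩
    rw [Nat.mul_add, mul_one]
    omega

theorem centralizer_card_unipotent {X : SL2} (hX : ∀ s : F, (X : M2) ≠ s • 1)
    (h2 : (2 : F) ≠ 0) {c : F} (hc : c * c = 1) (ht : (X : M2).trace = 2 * c) :
    Nat.card (Subgroup.centralizer ({X} : Set SL2)) = 2 * Fintype.card F := by
  have hXd := X.prop
  have hdet : ∀ x y : F, (x • (1 : M2) + y • (X : M2)).det = (x + c * y) * (x + c * y) := by
    intro x y
    rw [CfsgLib.SL2Tori.det_comb x y hXd, ht]
    linear_combination -(y * y) * hc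
  let e : Bool → F := fun b => if b then 1 else -1
  have he : ∀ b, e b * e b = 1 := fun b => by cases b <;> simp [e]
  have hmk : ∀ v : Bool × F, ((e v.1 - c * v.2) • (1 : M2) + v.2 • (X : M2)).det = 1 := fun v => by
    rw [hdet, sub_add_cancel, he]
  let f : Bool × F → Subgroup.centralizer ({X} : Set SL2) := fun v =>
    ⟨(⟨_, hmk v⟩ : SL2), Subgroup.mem_centralizer_singleton_iff.2 <| Subtype.ext <| by
      change ((e v.1 - c * v.2) • (1 : M2) + v.2 • (X : M2)) * (X : M2) =
        (X : M2) * ((e v.1 - c * v.2) • (1 : M2) + v.2 • (X : M2))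
      simp [add_mul, mul_add]⟩
  have hf : Function.Bijective f := by
    constructor
    · rintro ⟨b, y⟩ ⟨b', y'⟩ h
      have h' : (e b - c * y) • (1 : M2) + y • (X : M2) = (e b' - c * y') • 1 + y' • (X : M2) :=
        congrArg (fun k : Subgroup.centralizer ({X} : Set SL2) => ((k : SL2) : M2)) h
      have hy : y = y' := by
        by_contra hne
        apply hX ((e b' - c * y' - (e b - c * y)) / (y - y'))
        have hne' : y - y' ≠ 0 := sub_ne_zero.2 hne
        have key : (y - y') • (X : M2) = (e b' - c * y' - (e b - c * y)) • (1 : M2) := by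
          linear_combination (norm := module) h'
        rw [div_eq_inv_mul, mul_smul, ← key, smul_smul, inv_mul_cancel₀ hne', one_smul]
      subst hy
      have := congrFun (congrFun h' 0) 0
      simp at this
      refine Prod.ext ?_ rfl
      show b = b'
      cases b <;> cases b' <;> simp [e] at this ⊢
      · exact h2 (by linear_combination -this)
      · exact h2 (by linear_combination this)
    · rintro ⟨Y, hY⟩
      rw [Subgroup.mem_centralizer_singleton_iff] at hY
      have hY' : (Y : M2) * X = (X : M2) * Y := by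
        rw [← Matrix.SpecialLinearGroup.coe_mul, hY, Matrix.SpecialLinearGroup.coe_mul]
      obtain ⟨x, y, hxy⟩ := CfsgLib.SL2Tori.commutant hX hY'
      have hYd := Y.prop
      rw [hxy, hdet, mul_self_eq_one_iff] at hYd
      obtain ⟨b, hb⟩ : ∃ b, x + c * y = e b := by
        rcases hYd with h | h
        · exact ⟨true, by simpa [e] using h⟩
        · exact ⟨false, by simpa [e] using h⟩
      refine ⟨(b, y), Subtype.ext (Subtype.ext ?_)⟩
      show (e b - c * y) • (1 : M2) + y • (X : M2) = (Y : M2)
      rw [hxy, ← hb, add_sub_cancel_right]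
  rw [← Nat.card_eq_of_bijective f hf, Nat.card_prod, Nat.card_eq_fintype_card,
    Fintype.card_bool, Nat.card_eq_fintype_card]

theorem ncard_class_unipotent {X : SL2} (hX : ∀ s : F, (X : M2) ≠ s • 1)
    (h2 : (2 : F) ≠ 0) (ht : (X : M2).trace ^ 2 = 4) :
    {M | IsConj X M}.ncard = (Fintype.card F ^ 2 - 1) / 2 := by
  obtain ⟨c, hc, hct⟩ : ∃ c : F, c * c = 1 ∧ (X : M2).trace = 2 * c := by
    rcases sq_eq_sq_iff_eq_or_eq_neg.1
      (show (X : M2).trace ^ 2 = 2 ^ 2 by rw [ht]; norm_num) with h | h
    · exact ⟨1, by simp, by simp [h]⟩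
    · exact ⟨-1, by simp, by simp [h]⟩
  have h := Subgroup.card_mul_index (Subgroup.centralizer ({X} : Set SL2))
  rw [centralizer_card_unipotent hX h2 hc hct, card_sl_two, index_centralizer_eq_ncard] at h
  have hq : 0 < Fintype.card F := Fintype.card_pos
  have : 2 * {M | IsConj X M}.ncard = Fintype.card F ^ 2 - 1 := by
    apply Nat.eq_of_mul_eq_mul_left hq
    rw [← h]; ring
  omega

/-- For trace zero the quotient map is two-to-one on a class. -/
theorem two_mul_ncard_class_psl {X : SL2} (h2 : (2 : F) ≠ 0) (ht : (X : M2).trace = 0) :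
    2 * {g : PSL2 | IsConj (QuotientGroup.mk X : PSL2) g}.ncard = {M | IsConj X M}.ncard := by
  classical
  have h4 : (4 : F) ≠ 0 := by rw [show (4 : F) = 2 * 2 by norm_num]; exact mul_ne_zero h2 h2
  have hns : ∀ M : SL2, (M : M2).trace = 0 → ∀ s : F, (M : M2) ≠ s • 1 := fun M hM s hs => by
    have hd := M.prop
    rw [hs, Matrix.det_smul, Matrix.det_one, mul_one, Fintype.card_fin] at hd
    rw [hs] at hM
    simp at hM
    rcases hM with h | h
    · rw [h] at hd; simp at hd
    · exact h2 h
  have hset : {M | IsConj X M} = {M : SL2 | (M : M2).trace = 0} := by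
    rw [class_sl (hns X ht) (Or.inr (by rw [ht]; simpa using h4.symm)), ht]
    ext M
    exact ⟨fun h => h.1, fun h => ⟨h, hns M h⟩⟩
  rw [class_psl, hset]
  set S := {M : SL2 | (M : M2).trace = 0}
  have hpre : (QuotientGroup.mk : SL2 → PSL2) ⁻¹'
      ((fun M : SL2 => (QuotientGroup.mk M : PSL2)) '' S) = S := by
    ext M
    refine ⟨?_, fun h => ⟨M, h, rfl⟩⟩
    rintro ⟨N, hN, e⟩
    rcases mk_eq_mk_iff.1 e with e | e <;> show (M : M2).trace = 0 <;> rw [e]
    · exact hN
    · rw [Matrix.trace_neg, show (N : M2).trace = 0 from hN, neg_zero]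
  have hcard := QuotientGroup.preimageMkEquivSubgroupProdSet (Subgroup.center SL2)
    ((fun M : SL2 => (QuotientGroup.mk M : PSL2)) '' S)
  have := Nat.card_congr hcard
  rw [Nat.card_prod, Cfsg.Agent.Classical.card_center_sl 2 (by norm_num)] at this
  have hodd := odd_card h2
  have hg : Nat.gcd 2 (Fintype.card F - 1) = 2 := Nat.gcd_eq_left (by omega)
  rw [hg, hpre] at this
  rw [← Nat.card_coe_set_eq, ← Nat.card_coe_set_eq]
  exact this.symm

end CfsgLib.SpecLin.SLTwo
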