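import Mathlib

/-!
Block embeddings GL_d → GL_n and embeddings of field extensions into matrices.
-/

set_option autoImplicit false

namespace CfsgLib.SpecLin

open Matrix

/-- `A ↦ A ⊕ 1` in block form, `d ≤ n`. -/
def blockEmbed (F : Type*) [Field F] {d n : ℕ} (h : d ≤ n) :
    Matrix (Fin d) (Fin d) F →* Matrix (Fin n) (Fin n) F where
  toFun A := (Matrix.fromBlocks A 0 0 (1 : Matrix (Fin (n - d)) (Fin (n - d)) F)).submatrix
    (finSumFinEquiv.trans (finCongr (Nat.add_sub_cancel' h))).symm
    (finSumFinEquiv.trans (finCongr (Nat.add_sub_cancel' h))).symm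
  map_one' := by rw [Matrix.fromBlocks_one, Matrix.submatrix_one_equiv]
  map_mul' A B := by
    rw [Matrix.submatrix_mul_equiv, Matrix.fromBlocks_multiply]
    simp

theorem blockEmbed_injective (F : Type*) [Field F] {d n : ℕ} (h : d ≤ n) :
    Function.Injective (blockEmbed F h) := by
  intro A B hAB
  have h2 := congrArg (fun M => M.submatrix (finSumFinEquiv.trans (finCongr (Nat.add_sub_cancel' h)))
    (finSumFinEquiv.trans (finCongr (Nat.add_sub_cancel' h)))) hAB
  simp only [blockEmbed, MonoidHom.coe_mk, OneHom.coe_mk, Matrix.submatrix_submatrix,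
    Equiv.symm_comp_self, Matrix.submatrix_id_id] at h2
  exact (Matrix.fromBlocks_inj.1 h2).1

theorem det_blockEmbed (F : Type*) [Field F] {d n : ℕ} (h : d ≤ n) (A : Matrix (Fin d) (Fin d) F) :
    (blockEmbed F h A).det = A.det := by
  rw [blockEmbed, MonoidHom.coe_mk, OneHom.coe_mk, Matrix.det_submatrix_equiv_self,
    Matrix.det_fromBlocks_zero₂₁, Matrix.det_one, mul_one]

/-- Units of a degree `d` extension as `d × d` matrices. -/
theorem exists_unitsHom_of_extension (F K : Type*) [Field F] [Field K] [Algebra F K]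
    [Module.Finite F K] {d : ℕ} (hd : Module.finrank F K = d) :
    ∃ f : Kˣ →* Matrix (Fin d) (Fin d) F, Function.Injective f ∧
      ∀ a : Kˣ, (f a).det = Algebra.norm F (a : K) := by
  let b := (Module.finBasis F K).reindex (finCongr hd)
  refine ⟨((Algebra.leftMulMatrix b : K →ₐ[F] Matrix (Fin d) (Fin d) F) : K →* _).comp
    (Units.coeHom K), ?_, ?_⟩
  · exact (Algebra.leftMulMatrix_injective b).comp Units.val_injective
  · intro a
    exact (Algebra.norm_eq_matrix_det b (a : K)).symm

end CfsgLib.SpecLin
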