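import Mathlib

/-!
Conjugate products in PSL from similarities of matrices.
-/

set_option autoImplicit false

namespace CfsgLib.SpecLin

open Matrix

variable {F : Type*} [Field F] {n : ℕ}

/-- An element of `SL_n` outside the centre is not scalar. -/
theorem not_scalar_of_notMem_center {Z : Matrix.SpecialLinearGroup (Fin n) F}
    (hZ : Z ∉ Subgroup.center (Matrix.SpecialLinearGroup (Fin n) F)) :
    ∀ s : F, (Z : Matrix (Fin n) (Fin n) F) ≠ s • 1 := by
  intro s hs
  refine hZ (Subgroup.mem_center_iff.2 fun w => Subtype.ext ?_)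
  rw [Matrix.SpecialLinearGroup.coe_mul, Matrix.SpecialLinearGroup.coe_mul, hs]
  simp

/-- If `g = mk Z` and a conjugate of `Z` by `GL` is a product of two matrices conjugate to `x` by `SL`,
then `g` is a product of two conjugates of the image of `x`, provided that every matrix `GL`-similar
to `x` is `SL`-similar to it. -/
theorem psl_product_of_similar {x Z : Matrix.SpecialLinearGroup (Fin n) F}
    {M N P : Matrix (Fin n) (Fin n) F} (hP : P.det ≠ 0)
    (hPZ : P * (Z : Matrix (Fin n) (Fin n) F) = M * N * P)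
    (hconj : ∀ T : Matrix (Fin n) (Fin n) F, T.det = 1 →
      (∃ R : Matrix (Fin n) (Fin n) F, R.det ≠ 0 ∧ R * T = (x : Matrix (Fin n) (Fin n) F) * R) →
      ∃ u : Matrix.SpecialLinearGroup (Fin n) F, T = (u : Matrix (Fin n) (Fin n) F) * x * (u⁻¹ :))
    (hM : ∃ R : Matrix (Fin n) (Fin n) F, R.det ≠ 0 ∧ R * M = (x : Matrix (Fin n) (Fin n) F) * R)
    (hN : ∃ R : Matrix (Fin n) (Fin n) F, R.det ≠ 0 ∧ R * N = (x : Matrix (Fin n) (Fin n) F) * R) :
    ∃ u v : Matrix.ProjectiveSpecialLinearGroup (Fin n) F,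
      QuotientGroup.mk Z = (u * QuotientGroup.mk x * u⁻¹) * (v * QuotientGroup.mk x * v⁻¹) := by
  have hu : IsUnit P.det := hP.isUnit
  have key : ∀ T : Matrix (Fin n) (Fin n) F,
      (∃ R : Matrix (Fin n) (Fin n) F, R.det ≠ 0 ∧ R * T = (x : Matrix (Fin n) (Fin n) F) * R) →
      ∃ u : Matrix.SpecialLinearGroup (Fin n) F,
        P⁻¹ * T * P = ((u * x * u⁻¹ : Matrix.SpecialLinearGroup (Fin n) F) : Matrix (Fin n) (Fin n) F) := by
    rintro T ⟨R, hR, hRT⟩
    have hsim : R * P * (P⁻¹ * T * P) = (x : Matrix (Fin n) (Fin n) F) * (R * P) := by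
      rw [mul_assoc, ← mul_assoc P, ← mul_assoc P, Matrix.mul_nonsing_inv P hu, one_mul, ← mul_assoc,
        hRT, mul_assoc]
    have hdet : (P⁻¹ * T * P).det = 1 := by
      have h := congrArg Matrix.det hsim
      rw [det_mul, det_mul (x : Matrix (Fin n) (Fin n) F), x.prop, one_mul] at h
      exact mul_right_eq_self₀.1 h |>.resolve_right (by simp [hR, hP])
    obtain ⟨u, hu'⟩ := hconj _ hdet ⟨R * P, by simp [hR, hP], hsim⟩
    exact ⟨u, by rw [hu']; simp⟩
  obtain ⟨u, hu'⟩ := key M hM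
  obtain ⟨v, hv'⟩ := key N hN
  refine ⟨u, v, ?_⟩
  have hZ : Z = u * x * u⁻¹ * (v * x * v⁻¹) := by
    apply Subtype.ext
    calc (Z : Matrix (Fin n) (Fin n) F) = P⁻¹ * M * P * (P⁻¹ * N * P) := by
          rw [mul_assoc (P⁻¹ * M) P, ← mul_assoc P, ← mul_assoc P, Matrix.mul_nonsing_inv P hu,
            one_mul]
          simp only [mul_assoc]
          rw [← mul_assoc M N P, ← hPZ, ← mul_assoc, Matrix.nonsing_inv_mul P hu, one_mul]
      _ = _ := by rw [hu', hv']; simp
  rw [hZ]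
  rfl

end CfsgLib.SpecLin
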