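import Mathlib
import Cfsg.Agent.Lib.SpecLin.SemisimpleOrder
import Cfsg.Agent.Lib.SpecLin.FieldEmbed
import Cfsg.Agent.Lib.SpecLin.PSLClass
import Cfsg.Agent.Lib.RegUnip.Jordan

/-!
Element orders of PSL_n(q): bounds from primary minimal polynomials, and block diagonal witnesses.
-/

set_option autoImplicit false

namespace CfsgLib.SpecLin.PSLOrders

open Matrix Polynomial

variable {F : Type*} [Field F] [Fintype F]

/-- `1 + q + ⋯ + q^(d-1)` -/
def cyc (q d : ℕ) : ℕ := ∑ i ∈ Finset.range d, q ^ i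

theorem cyc_mul (q d : ℕ) (hq : 1 ≤ q) : cyc q d * (q - 1) = q ^ d - 1 := by
  obtain ⟨k, rfl⟩ : ∃ k, q = k + 1 := ⟨q - 1, by omega⟩
  rw [cyc, Nat.add_sub_cancel, geom_sum_mul_add k d |> fun h => (Nat.sub_eq_of_eq_add h.symm)]

theorem cyc_pos (q d : ℕ) (hd : 1 ≤ d) : 0 < cyc q d := by
  obtain ⟨k, rfl⟩ : ∃ k, d = k + 1 := ⟨d - 1, by omega⟩
  rw [cyc, Finset.sum_range_succ']
  simp

theorem gcd_dvd_cyc (q n : ℕ) (hq : 1 ≤ q) : Nat.gcd n (q - 1) ∣ cyc q n := by
  set δ := Nat.gcd n (q - 1)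
  have h : ((cyc q n : ℕ) : ZMod δ) = 0 := by
    have hq1 : ((q : ℕ) : ZMod δ) = 1 := by
      have h1 : ((q - 1 : ℕ) : ZMod δ) = 0 := (ZMod.natCast_eq_zero_iff _ _).2 (Nat.gcd_dvd_right _ _)
      rw [← Nat.sub_add_cancel hq, Nat.cast_add, h1]
      simp
    simp [cyc, hq1]
    exact (ZMod.natCast_eq_zero_iff _ _).2 (Nat.gcd_dvd_left _ _)
  exact (ZMod.natCast_eq_zero_iff _ _).1 h

/-- A fixed point of `x ↦ x^q` lies in the ground field. -/
theorem mem_range_of_pow_card {K : Type*} [Field K] [Algebra F K] {x : K}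
    (hx : x ^ Fintype.card F = x) : x ∈ Set.range (algebraMap F K) := by
  classical
  by_contra hn
  let P : K[X] := X ^ Fintype.card F - X
  have hP : P ≠ 0 := FiniteField.X_pow_card_sub_X_ne_zero _ Fintype.one_lt_card
  have hsub : (insert x ((Finset.univ : Finset F).image (algebraMap F K))).val ⊆ P.roots := by
    intro z hz
    rw [Finset.mem_val, Finset.mem_insert, Finset.mem_image] at hz
    rw [mem_roots hP]
    rcases hz with rfl | ⟨a, -, rfl⟩
    · simp [P, hx]
    · simp [P, ← map_pow, FiniteField.pow_card]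
  have h1 := Polynomial.card_le_degree_of_subset_roots hsub
  rw [Finset.card_insert_of_notMem, Finset.card_image_of_injective _ (algebraMap F K).injective,
    Finset.card_univ, FiniteField.X_pow_card_sub_X_natDegree_eq _ Fintype.one_lt_card] at h1
  · omega
  · simp only [Finset.mem_image]
    rintro ⟨a, -, ha⟩
    exact hn ⟨a, ha⟩

/-- If the root of `φ` has `ρ ^ (k(q-1)) = 1`, then `φ ∣ X^k - ν`. -/
theorem exists_dvd_X_pow_sub_C {φ : F[X]} [Fact (Irreducible φ)] {k : ℕ}
    (h : AdjoinRoot.root φ ^ (k * (Fintype.card F - 1)) = 1) :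
    ∃ ν : F, φ ∣ X ^ k - C ν := by
  obtain ⟨ν, hν⟩ := mem_range_of_pow_card (F := F) (x := AdjoinRoot.root φ ^ k) (by
    conv_lhs => rw [← Nat.sub_add_cancel (Fintype.card_pos (α := F))]
    rw [Nat.succ_eq_add_one, zero_add, pow_succ, ← pow_mul, h, one_mul])
  refine ⟨ν, ?_⟩
  rw [← AdjoinRoot.mk_eq_zero, map_sub, map_pow, AdjoinRoot.mk_X, AdjoinRoot.mk_C, ← hν,
    AdjoinRoot.algebraMap_eq, sub_self]

variable {n : ℕ}

local notation "SL" => Matrix.SpecialLinearGroup (Fin n) F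
local notation "PSL" => Matrix.ProjectiveSpecialLinearGroup (Fin n) F

omit [Fintype F] in
theorem mem_center_of_eq_scalar {M : SL} {s : F} (h : (M : Matrix (Fin n) (Fin n) F) = s • 1) :
    M ∈ Subgroup.center SL := by
  refine Subgroup.mem_center_iff.2 fun w => Subtype.ext ?_
  rw [Matrix.SpecialLinearGroup.coe_mul, Matrix.SpecialLinearGroup.coe_mul, h]
  simp

omit [Fintype F] in
theorem exists_scalar_of_mem_center {M : SL} (h : M ∈ Subgroup.center SL) :
    ∃ s : F, s ^ n = 1 ∧ (M : Matrix (Fin n) (Fin n) F) = s • 1 := by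
  obtain ⟨r, hr, hrM⟩ := Matrix.SpecialLinearGroup.mem_center_iff.1 h
  exact ⟨r, by simpa using hr, by rw [← hrM, Matrix.scalar_apply, Matrix.smul_one_eq_diagonal]⟩

omit [Fintype F] in
theorem orderOf_mk_dvd_of_pow_eq_scalar {M : SL} {k : ℕ} {s : F}
    (h : (M : Matrix (Fin n) (Fin n) F) ^ k = s • 1) :
    orderOf (QuotientGroup.mk M : PSL) ∣ k := by
  apply orderOf_dvd_of_pow_eq_one
  rw [← QuotientGroup.mk_pow, QuotientGroup.eq_one_iff]
  exact mem_center_of_eq_scalar (by rw [Matrix.SpecialLinearGroup.coe_pow, h])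

/-- Order bound from a primary minimal polynomial. -/
theorem orderOf_mk_dvd_of_primary (p : ℕ) [Fact p.Prime] [CharP F p] {M : SL} {φ : F[X]} {e k c : ℕ}
    {ν : F} (hφ : aeval (M : Matrix (Fin n) (Fin n) F) (φ ^ e) = 0) (hν : φ ∣ X ^ k - C ν)
    (hc : e ≤ p ^ c) : orderOf (QuotientGroup.mk M : PSL) ∣ k * p ^ c := by
  obtain ⟨t, ht⟩ := hν
  have h0 : ((M : Matrix (Fin n) (Fin n) F) ^ k - ν • 1) ^ p ^ c = 0 := by
    have h1 : aeval (M : Matrix (Fin n) (Fin n) F) ((X ^ k - C ν) ^ p ^ c) = 0 := by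
      rw [ht, mul_pow, map_mul, ← Nat.add_sub_cancel' hc, pow_add, map_mul, hφ]
      simp
    simpa [Algebra.algebraMap_eq_smul_one] using h1
  rcases isEmpty_or_nonempty (Fin n) with he | hne
  · exact orderOf_mk_dvd_of_pow_eq_scalar (s := 1) (Subsingleton.elim _ _)
  apply orderOf_mk_dvd_of_pow_eq_scalar (s := ν ^ p ^ c)
  rw [sub_pow_char_pow_of_commute _ _ ((Commute.one_right _).smul_right _), sub_eq_zero, _root_.smul_pow,
    one_pow, ← pow_mul] at h0
  exact h0

omit [Fintype F] in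
theorem not_dvd_X_of_primary {M : SL} (hn : 1 ≤ n) {φ : F[X]} {e : ℕ}
    (hφ : aeval (M : Matrix (Fin n) (Fin n) F) (φ ^ e) = 0) : ¬ φ ∣ X := by
  intro hX
  obtain ⟨t, ht⟩ := hX
  have h1 : aeval (M : Matrix (Fin n) (Fin n) F) ((X : F[X]) ^ e) = 0 := by
    rw [ht, mul_pow, map_mul, hφ, zero_mul]
  rw [map_pow, aeval_X] at h1
  have h2 := congrArg Matrix.det h1
  rw [det_pow, M.prop, one_pow] at h2
  have : Nonempty (Fin n) := ⟨⟨0, hn⟩⟩
  rw [Matrix.det_zero] at h2
  exact one_ne_zero h2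

theorem root_pow_card_sub_one {φ : F[X]} [hf : Fact (Irreducible φ)] (hX : ¬ φ ∣ X) :
    AdjoinRoot.root φ ^ (cyc (Fintype.card F) φ.natDegree * (Fintype.card F - 1)) = 1 := by
  have h := irreducible_dvd_X_pow_sub_one hf.out hX
  rw [← AdjoinRoot.mk_eq_zero, map_sub, map_pow, AdjoinRoot.mk_X, map_one, sub_eq_zero] at h
  rw [cyc_mul _ _ Fintype.card_pos, h]

/-- For an irreducible characteristic polynomial the root has norm one. -/
theorem root_pow_cyc_eq_one {M : SL} {φ : F[X]} [hf : Fact (Irreducible φ)] (hmon : φ.Monic)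
    (hdeg : φ.natDegree = n) (hch : (M : Matrix (Fin n) (Fin n) F).charpoly = φ) :
    AdjoinRoot.root φ ^ cyc (Fintype.card F) n = 1 := by
  let pb := AdjoinRoot.powerBasis hf.out.ne_zero
  have : Module.Finite F (AdjoinRoot φ) := pb.finite
  have : Finite (AdjoinRoot φ) := Module.finite_of_finite F
  have hrank : Module.finrank F (AdjoinRoot φ) = n := by
    rw [pb.finrank, AdjoinRoot.powerBasis_dim, hdeg]
  have h := FiniteField.algebraMap_norm_eq_pow_sum (K := F) (L := AdjoinRoot φ) (x := AdjoinRoot.root φ)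
  rw [hrank, Nat.card_eq_fintype_card] at h
  have hn : Algebra.norm F (AdjoinRoot.root φ) = 1 := by
    have h1 := Algebra.PowerBasis.norm_gen_eq_coeff_zero_minpoly pb
    rw [AdjoinRoot.powerBasis_gen, AdjoinRoot.powerBasis_dim, AdjoinRoot.minpoly_root hf.out.ne_zero,
      hmon.leadingCoeff, inv_one, map_one, mul_one, hdeg] at h1
    have h2 := Matrix.det_eq_sign_charpoly_coeff (M : Matrix (Fin n) (Fin n) F)
    rw [M.prop, hch, Fintype.card_fin] at h2
    rw [h1, ← h2]
  rw [hn, map_one] at h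
  exact h.symm

omit [Fintype F] in
/-- The linear map acting as `α` on `A` and `β` on `B` gives a commuting element. -/
theorem exists_commuting_of_isCompl {M : SL} {A B : Submodule F (Fin n → F)} (hAB : IsCompl A B)
    (hA : ∀ v ∈ A, (M : Matrix (Fin n) (Fin n) F) *ᵥ v ∈ A)
    (hB : ∀ v ∈ B, (M : Matrix (Fin n) (Fin n) F) *ᵥ v ∈ B) (hA0 : A ≠ ⊥) (hB0 : B ≠ ⊥)
    {ζ : Fˣ} {r : ℕ} (hζ : orderOf ζ = r) (hr : ¬ r ∣ n) :
    ∃ Z : SL, Z ^ r = 1 ∧ Z ∉ Subgroup.center SL ∧ Commute M Z := by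
  set a := Module.finrank F A
  set b := Module.finrank F B
  have hab : a + b = n := by
    have := Submodule.finrank_add_eq_of_isCompl hAB
    simpa using this
  set α : F := ((ζ ^ b : Fˣ) : F) with hα
  set β : F := ((ζ⁻¹ ^ a : Fˣ) : F) with hβ
  have hαβ : α ^ a * β ^ b = 1 := by
    rw [hα, hβ, ← Units.val_pow_eq_pow_val, ← Units.val_pow_eq_pow_val, ← Units.val_mul, ← pow_mul,
      ← pow_mul, mul_comm a b, inv_pow, mul_inv_cancel, Units.val_one]
  have hζr : ζ ^ r = 1 := hζ ▸ pow_orderOf_eq_one ζ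
  have hαr : α ^ r = 1 := by
    rw [hα, ← Units.val_pow_eq_pow_val, ← pow_mul, mul_comm, pow_mul, hζr, one_pow, Units.val_one]
  have hβr : β ^ r = 1 := by
    rw [hβ, ← Units.val_pow_eq_pow_val, ← pow_mul, mul_comm, pow_mul, inv_pow, hζr, inv_one, one_pow,
      Units.val_one]
  have hne : α ≠ β := fun h => hr (by
    rw [← hζ, ← hab]
    apply orderOf_dvd_of_pow_eq_one
    have h' : ζ ^ b = ζ⁻¹ ^ a := Units.ext h
    rw [pow_add, h', inv_pow, mul_inv_cancel])
  let e := Submodule.prodEquivOfIsCompl A B hAB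
  let T : (Fin n → F) →ₗ[F] (Fin n → F) :=
    (e : (A × B) →ₗ[F] (Fin n → F)) ∘ₗ
      ((α • LinearMap.id).prodMap (β • LinearMap.id)) ∘ₗ (e.symm : (Fin n → F) →ₗ[F] A × B)
  have hT : ∀ x : A × B, T (e x) = α • (x.1 : Fin n → F) + β • (x.2 : Fin n → F) := fun x => by
    simp [T, e, Submodule.coe_prodEquivOfIsCompl']
  have hdet : T.det = 1 := by
    rw [show T = (e : (A × B) →ₗ[F] (Fin n → F)) ∘ₗ
      ((α • LinearMap.id).prodMap (β • LinearMap.id)) ∘ₗ (e.symm : (Fin n → F) →ₗ[F] A × B) from rfl,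
      LinearMap.det_conj, LinearMap.det_prodMap, LinearMap.det_smul, LinearMap.det_smul,
      LinearMap.det_id, LinearMap.det_id, mul_one, mul_one]
    exact hαβ
  have hdet' : (LinearMap.toMatrix' T).det = 1 := by rw [LinearMap.det_toMatrix', hdet]
  have hcomm : (M : Matrix (Fin n) (Fin n) F) * LinearMap.toMatrix' T =
      LinearMap.toMatrix' T * M := by
    apply Matrix.toLin'.injective
    rw [Matrix.toLin'_mul, Matrix.toLin'_mul, Matrix.toLin'_toMatrix']
    refine LinearMap.ext fun v => ?_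
    obtain ⟨⟨x, y⟩, rfl⟩ := e.surjective v
    have hxy : (M : Matrix (Fin n) (Fin n) F) *ᵥ (e (x, y)) =
        e (⟨_, hA x x.2⟩, ⟨_, hB y y.2⟩) := by
      simp [e, Submodule.coe_prodEquivOfIsCompl', Matrix.mulVec_add]
    simp only [LinearMap.comp_apply, Matrix.toLin'_apply]
    rw [hT, hxy, hT, Matrix.mulVec_add, Matrix.mulVec_smul, Matrix.mulVec_smul]
  have hpowT : T ^ r = 1 := by
    have hiter : ∀ (k : ℕ) (x : A × B), (T ^ k) (e x) = e (α ^ k • x.1, β ^ k • x.2) := by
      intro k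
      induction k with
      | zero => intro x; simp
      | succ k ih =>
        intro x
        have hTe : T (e x) = e (α • x.1, β • x.2) := by
          rw [hT]
          simp [e, Submodule.coe_prodEquivOfIsCompl']
        rw [pow_succ, Module.End.mul_apply, hTe, ih, smul_smul, smul_smul, ← pow_succ, ← pow_succ]
    refine LinearMap.ext fun v => ?_
    obtain ⟨x, rfl⟩ := e.surjective v
    rw [hiter, hαr, hβr, one_smul, one_smul, Module.End.one_apply]
  refine ⟨⟨LinearMap.toMatrix' T, hdet'⟩, ?_, ?_, ?_⟩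
  · apply Subtype.ext
    change LinearMap.toMatrix' T ^ r = 1
    change LinearMap.toMatrixAlgEquiv' T ^ r = 1
    rw [← map_pow, hpowT, map_one]
  · intro hc
    obtain ⟨s, -, hs⟩ := exists_scalar_of_mem_center hc
    replace hs : LinearMap.toMatrix' T = s • 1 := hs
    have hTs : ∀ v, T v = s • v := fun v => by
      rw [← LinearMap.toMatrix'_mulVec, hs, Matrix.smul_mulVec, Matrix.one_mulVec]
    obtain ⟨x, hx, hx0⟩ := Submodule.exists_mem_ne_zero_of_ne_bot hA0
    obtain ⟨y, hy, hy0⟩ := Submodule.exists_mem_ne_zero_of_ne_bot hB0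
    have h1 : α • x = s • x := by
      rw [← hTs, show x = e (⟨x, hx⟩, 0) by simp [e, Submodule.coe_prodEquivOfIsCompl'], hT]
      simp [e, Submodule.coe_prodEquivOfIsCompl']
    have h2 : β • y = s • y := by
      rw [← hTs, show y = e (0, ⟨y, hy⟩) by simp [e, Submodule.coe_prodEquivOfIsCompl'], hT]
      simp [e, Submodule.coe_prodEquivOfIsCompl']
    exact hne ((smul_left_injective F hx0 h1).trans (smul_left_injective F hy0 h2).symm)
  · exact Subtype.ext hcomm

omit [Fintype F] in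
/-- Either the minimal polynomial is primary, or the space decomposes. -/
theorem primary_or_decomposable (M : Matrix (Fin n) (Fin n) F) (hn : 1 ≤ n) :
    (∃ φ : F[X], ∃ e : ℕ, Irreducible φ ∧ φ.Monic ∧ 1 ≤ e ∧ aeval M (φ ^ e) = 0 ∧
      φ.natDegree * e ≤ n ∧ (φ.natDegree = n → M.charpoly = φ)) ∨
    ∃ A B : Submodule F (Fin n → F), IsCompl A B ∧ (∀ v ∈ A, M *ᵥ v ∈ A) ∧ (∀ v ∈ B, M *ᵥ v ∈ B) ∧
      A ≠ ⊥ ∧ B ≠ ⊥ := by
  have : Nonempty (Fin n) := ⟨⟨0, hn⟩⟩
  let f := Matrix.toLinAlgEquiv' M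
  set μ := minpoly F M with hμ
  have hint : IsIntegral F M := Matrix.isIntegral M
  have hμ0 : μ ≠ 0 := minpoly.ne_zero hint
  obtain ⟨φ, hφmon, hφirr, hφμ⟩ := exists_monic_irreducible_factor μ (minpoly.not_isUnit F M)
  obtain ⟨e, Q, hQ, hμeq⟩ := WfDvdMonoid.max_power_factor hμ0 hφirr
  have he1 : 1 ≤ e := by
    by_contra h
    have : e = 0 := by omega
    subst this
    rw [pow_zero, one_mul] at hμeq
    exact hQ (hμeq ▸ hφμ)
  by_cases hQu : IsUnit Q
  · refine Or.inl ⟨φ, e, hφirr, hφmon, he1, ?_, ?_, fun hd => ?_⟩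
    · have h := minpoly.aeval F M
      rw [← hμ, hμeq, map_mul] at h
      have hQ' : IsUnit (aeval M Q) := hQu.map _
      exact hQ'.mul_left_eq_zero.1 h
    · have h := natDegree_le_of_dvd ((dvd_mul_right (φ ^ e) Q).trans (hμeq ▸ Matrix.minpoly_dvd_charpoly M))
        M.charpoly_monic.ne_zero
      rw [natDegree_pow, M.charpoly_natDegree_eq_dim, Fintype.card_fin] at h
      rwa [mul_comm]
    · have hdvd : φ ∣ M.charpoly := hφμ.trans (Matrix.minpoly_dvd_charpoly M)
      exact (eq_of_monic_of_dvd_of_natDegree_le hφmon M.charpoly_monic hdvd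
        (by rw [M.charpoly_natDegree_eq_dim, Fintype.card_fin, hd])).symm ▸ rfl
  · have hcop : IsCoprime (φ ^ e) Q := (hφirr.coprime_iff_not_dvd.2 hQ).pow_left
    have haev : ∀ P : F[X], aeval f P = Matrix.toLinAlgEquiv' (aeval M P) := fun P =>
      (Polynomial.aeval_algHom_apply (Matrix.toLinAlgEquiv' : Matrix (Fin n) (Fin n) F ≃ₐ[F] _) M P)
    have hinv : ∀ P : F[X], ∀ v ∈ LinearMap.ker (aeval f P), M *ᵥ v ∈ LinearMap.ker (aeval f P) := by
      intro P v hv
      rw [LinearMap.mem_ker] at hv ⊢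
      have hc : aeval f P * f = f * aeval f P := by
        have := congrArg (aeval f) (mul_comm P X)
        simpa using this
      calc aeval f P (M *ᵥ v) = (aeval f P * f) v := by simp [f]
        _ = 0 := by rw [hc, Module.End.mul_apply, hv, map_zero]
    refine Or.inr ⟨_, _, ⟨disjoint_ker_aeval_of_isCoprime f hcop, ?_⟩, hinv (φ ^ e), hinv Q, ?_, ?_⟩
    · rw [codisjoint_iff, sup_ker_aeval_eq_ker_aeval_mul_of_coprime f hcop, ← hμeq, haev, hμ,
        minpoly.aeval, map_zero, LinearMap.ker_zero]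
    · intro hbot
      have hinj := LinearMap.ker_eq_bot.1 hbot
      have hQ0 : aeval f Q = 0 := by
        refine LinearMap.ext fun v => hinj ?_
        rw [LinearMap.zero_apply, map_zero, ← Module.End.mul_apply, ← map_mul, ← hμeq, haev, hμ,
          minpoly.aeval, map_zero, LinearMap.zero_apply]
      rw [haev, map_eq_zero_iff _ Matrix.toLinAlgEquiv'.injective] at hQ0
      exact hQ (hφμ.trans (minpoly.dvd F M hQ0))
    · intro hbot
      have hinj := LinearMap.ker_eq_bot.1 hbot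
      have hP0 : aeval f (φ ^ e) = 0 := by
        refine LinearMap.ext fun v => hinj ?_
        rw [LinearMap.zero_apply, map_zero, ← Module.End.mul_apply, ← map_mul, mul_comm Q, ← hμeq,
          haev, hμ, minpoly.aeval, map_zero, LinearMap.zero_apply]
      rw [haev, map_eq_zero_iff _ Matrix.toLinAlgEquiv'.injective] at hP0
      have hd := minpoly.dvd F M hP0
      rw [← hμ, hμeq] at hd
      exact hQu (isUnit_of_dvd_one ((mul_dvd_mul_iff_left (pow_ne_zero e hφirr.ne_zero)).1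
        (hd.trans (mul_one (φ ^ e)).symm.dvd)))

/-- An element of norm one of order `1 + q + ⋯ + q^(d-1)` in `SL_d`. -/
theorem exists_singer {d : ℕ} (hd : 1 ≤ d) :
    ∃ A : Matrix (Fin d) (Fin d) F, A.det = 1 ∧ orderOf A = cyc (Fintype.card F) d := by
  obtain ⟨p, hp⟩ := CharP.exists F
  have : Fact p.Prime := ⟨CharP.char_is_prime F p⟩
  have : NeZero d := ⟨by omega⟩
  let K := FiniteField.Extension F p d
  have : Finite K := Module.finite_of_finite F
  obtain ⟨f, hf, hdet⟩ := exists_unitsHom_of_extension F K (FiniteField.finrank_extension F p d)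
  obtain ⟨g, hg⟩ := IsCyclic.exists_generator (α := Kˣ)
  have hcard : orderOf g = Fintype.card F ^ d - 1 := by
    rw [orderOf_eq_card_of_forall_mem_zpowers hg, Nat.card_units, FiniteField.natCard_extension,
      Nat.card_eq_fintype_card]
  refine ⟨f (g ^ (Fintype.card F - 1)), ?_, ?_⟩
  · rw [hdet, Units.val_pow_eq_pow_val, map_pow]
    exact FiniteField.pow_card_sub_one_eq_one _ (Algebra.norm_ne_zero_iff.2 g.ne_zero)
  · have h1 := Fintype.one_lt_card (α := F)
    rw [orderOf_injective f hf, orderOf_pow' g (by omega), hcard, ← cyc_mul _ _ (by omega),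
      Nat.gcd_mul_left_left, Nat.mul_div_cancel _ (by omega)]

omit [Fintype F] in
theorem eq_one_of_regUnip_pow_eq_scalar {k j : ℕ} (hk : 1 ≤ k) {s : F}
    (h : (1 + RegUnip.shiftMat k F) ^ j = s • (1 : Matrix (Fin k) (Fin k) F)) : s = 1 := by
  obtain ⟨m, rfl⟩ : ∃ m, k = m + 1 := ⟨k - 1, by omega⟩
  have hlast : ((1 + RegUnip.shiftMat (m + 1) F) ^ j) (Fin.last m) (Fin.last m) = 1 := by
    clear h
    induction j with
    | zero => simp
    | succ j ih =>
      rw [pow_succ, Matrix.mul_apply, Finset.sum_eq_single (Fin.last m)]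
      · rw [ih]; simp [RegUnip.shiftMat]
      · intro i _ hi
        have hi' : ¬ ((i : ℕ) + 1 = m) → (1 + RegUnip.shiftMat (m + 1) F) i (Fin.last m) = 0 := by
          intro h'; simp [RegUnip.shiftMat, Matrix.one_apply_ne hi, h']
        by_cases h' : (i : ℕ) + 1 = m
        · have : ((1 + RegUnip.shiftMat (m + 1) F) ^ j) (Fin.last m) i = 0 := by
            have hu : Matrix.BlockTriangular ((1 + RegUnip.shiftMat (m + 1) F) ^ j) id := by
              refine Matrix.BlockTriangular.pow ?_ j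
              intro a b hab
              have : b.val < a.val := hab
              simp [RegUnip.shiftMat, Matrix.one_apply_ne (fun e => by subst e; omega : a ≠ b)]
              omega
            exact hu (show i < Fin.last m from Fin.lt_last_iff_ne_last.2 hi)
          rw [this, zero_mul]
        · rw [hi' h', mul_zero]
      · simp
  rw [h] at hlast
  simpa using hlast

/-- The regular unipotent matrix of size `k > p^(c-1)` has order divisible by `p^c`. -/
theorem regUnip_order (p : ℕ) [hp : Fact p.Prime] [CharP F p] {k c : ℕ}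
    (hc : c = 0 ∨ p ^ (c - 1) < k) : p ^ c ∣ orderOf (1 + RegUnip.shiftMat k F) := by
  rcases hc with rfl | hc
  · simp
  have hk : Nonempty (Fin k) := ⟨⟨0, by omega⟩⟩
  obtain ⟨C, hC⟩ := Nat.exists_eq_add_of_le (show 0 ≤ k by omega)
  have hpow : ∀ j, (1 + RegUnip.shiftMat k F) ^ p ^ j = 1 + RegUnip.shiftMat k F ^ p ^ j := fun j => by
    rw [add_pow_char_pow_of_commute _ _ (Commute.one_left _), one_pow]
  have hk1 : (1 + RegUnip.shiftMat k F) ^ p ^ k = 1 := by
    rw [hpow]
    have hle : k ≤ p ^ k := (Nat.lt_pow_self hp.out.one_lt).le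
    rw [pow_eq_zero_of_le hle (RegUnip.shiftMat_pow_eq_zero k), add_zero]
  obtain ⟨i, -, hi⟩ := (Nat.dvd_prime_pow hp.out).1 (orderOf_dvd_of_pow_eq_one hk1)
  rw [hi]
  refine Nat.pow_dvd_pow p ?_
  by_contra hlt
  have h1 : (1 + RegUnip.shiftMat k F) ^ p ^ (c - 1) = 1 := by
    rw [← orderOf_dvd_iff_pow_eq_one, hi]
    exact Nat.pow_dvd_pow p (by omega)
  rw [hpow, add_eq_left] at h1
  have := congrFun (congrFun h1 ⟨0, by omega⟩) ⟨p ^ (c - 1), hc⟩
  rw [RegUnip.shiftMat_pow_apply] at this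
  simp at this

/-- `A ⊕ J_k` in `SL_n` and a commuting element of order dividing `r` outside the centre. -/
theorem exists_block_witness (p : ℕ) [Fact p.Prime] [CharP F p] {d k c : ℕ} (hd : 1 ≤ d) (hk : 1 ≤ k)
    (hdk : d + k = n) (hc : c = 0 ∨ p ^ (c - 1) < k) {ζ : Fˣ} {r : ℕ} (hζ : orderOf ζ = r)
    (hr : ¬ r ∣ n) :
    ∃ Y Z : SL, cyc (Fintype.card F) d * p ^ c ∣ orderOf (QuotientGroup.mk Y : PSL) ∧
      Z ^ r = 1 ∧ Z ∉ Subgroup.center SL ∧ Commute Y Z := by
  obtain ⟨A, hA, hAo⟩ := exists_singer (F := F) hd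
  let J : Matrix (Fin k) (Fin k) F := 1 + RegUnip.shiftMat k F
  let e : Fin d ⊕ Fin k ≃ Fin n := finSumFinEquiv.trans (finCongr hdk)
  let bd : Matrix (Fin d) (Fin d) F → Matrix (Fin k) (Fin k) F → Matrix (Fin n) (Fin n) F :=
    fun X W => (Matrix.fromBlocks X 0 0 W).submatrix e.symm e.symm
  have bd_mul : ∀ X W X' W', bd X W * bd X' W' = bd (X * X') (W * W') := fun X W X' W' => by
    simp only [bd, Matrix.submatrix_mul_equiv, Matrix.fromBlocks_multiply]
    simp
  have bd_det : ∀ X W, (bd X W).det = X.det * W.det := fun X W => by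
    simp only [bd, Matrix.det_submatrix_equiv_self, Matrix.det_fromBlocks_zero₂₁]
  have bd_one : bd 1 1 = 1 := by simp only [bd, Matrix.fromBlocks_one, Matrix.submatrix_one_equiv]
  have bd_pow : ∀ X W (j : ℕ), bd X W ^ j = bd (X ^ j) (W ^ j) := fun X W j => by
    induction j with
    | zero => simp [bd_one]
    | succ j ih => rw [pow_succ, ih, bd_mul, pow_succ, pow_succ]
  have bd_smul : ∀ s : F, bd (s • 1) (s • 1) = s • 1 := fun s => by
    rw [← bd_one]
    ext i j
    simp only [bd, Matrix.submatrix_apply, Matrix.smul_apply]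
    rcases e.symm i with a | a <;> rcases e.symm j with b | b <;> simp
  have bd_inj : ∀ {X W X' W'}, bd X W = bd X' W' → X = X' ∧ W = W' := fun {X W X' W'} h => by
    have h' := congrArg (fun T => T.submatrix e e) h
    simp only [bd, Matrix.submatrix_submatrix, Equiv.symm_comp_self, Matrix.submatrix_id_id] at h'
    have := Matrix.fromBlocks_inj.1 h'
    exact ⟨this.1, this.2.2.2⟩
  let Y : SL := ⟨bd A J, by rw [bd_det, hA, RegUnip.det_one_add_shiftMat, one_mul]⟩
  set α : F := ((ζ ^ k : Fˣ) : F) with hα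
  set β : F := ((ζ⁻¹ ^ d : Fˣ) : F) with hβ
  have hαβ : α ^ d * β ^ k = 1 := by
    rw [hα, hβ, ← Units.val_pow_eq_pow_val, ← Units.val_pow_eq_pow_val, ← Units.val_mul, ← pow_mul,
      ← pow_mul, mul_comm d k, inv_pow, mul_inv_cancel, Units.val_one]
  let Z : SL := ⟨bd (α • 1) (β • 1), by
    rw [bd_det, det_smul, det_smul, det_one, det_one, mul_one, mul_one, Fintype.card_fin,
      Fintype.card_fin, hαβ]⟩
  refine ⟨Y, Z, ?_, ?_, ?_, ?_⟩
  · -- the order
    set o := orderOf (QuotientGroup.mk Y : PSL) with ho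
    have h1 : Y ^ o ∈ Subgroup.center SL := by
      rw [← QuotientGroup.eq_one_iff, QuotientGroup.mk_pow, pow_orderOf_eq_one]
    obtain ⟨s, -, hs⟩ := exists_scalar_of_mem_center h1
    rw [Matrix.SpecialLinearGroup.coe_pow] at hs
    change bd A J ^ o = _ at hs
    rw [bd_pow, ← bd_smul] at hs
    obtain ⟨hAs, hJs⟩ := bd_inj hs
    have hs1 : s = 1 := eq_one_of_regUnip_pow_eq_scalar hk hJs
    rw [hs1, one_smul] at hAs hJs
    have hA' : cyc (Fintype.card F) d ∣ o := hAo ▸ orderOf_dvd_of_pow_eq_one hAs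
    have hJ' : p ^ c ∣ o := (regUnip_order p hc).trans (orderOf_dvd_of_pow_eq_one hJs)
    refine Nat.Coprime.mul_dvd_of_dvd_of_dvd (Nat.Coprime.pow_right c ?_) hA' hJ'
    rw [Nat.coprime_comm, (Fact.out : p.Prime).coprime_iff_not_dvd]
    intro hdvd
    have hq : ((Fintype.card F : ℕ) : ZMod p) = 0 :=
      (ZMod.natCast_eq_zero_iff _ _).2 ((CharP.cast_eq_zero_iff F p _).1 (FiniteField.cast_card_eq_zero F))
    have := (ZMod.natCast_eq_zero_iff _ _).2 hdvd
    obtain ⟨d', rfl⟩ : ∃ d', d = d' + 1 := ⟨d - 1, by omega⟩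
    simp [cyc, Finset.sum_range_succ', hq] at this
  · apply Subtype.ext
    change bd (α • 1) (β • 1) ^ r = 1
    have hζr : ζ ^ r = 1 := hζ ▸ pow_orderOf_eq_one ζ
    rw [bd_pow, _root_.smul_pow, _root_.smul_pow, one_pow, one_pow, hα, hβ, ← Units.val_pow_eq_pow_val,
      ← Units.val_pow_eq_pow_val, ← pow_mul, ← pow_mul, mul_comm k r, mul_comm d r, pow_mul, pow_mul,
      inv_pow, hζr, inv_one, one_pow, one_pow, Units.val_one, one_smul, one_smul, bd_one]
  · intro hc'
    obtain ⟨s, -, hs⟩ := exists_scalar_of_mem_center hc'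
    change bd (α • 1) (β • 1) = _ at hs
    rw [← bd_smul] at hs
    obtain ⟨h1, h2⟩ := bd_inj hs
    have e1 : α = s := by simpa using congrFun (congrFun h1 ⟨0, hd⟩) ⟨0, hd⟩
    have e2 : β = s := by simpa using congrFun (congrFun h2 ⟨0, hk⟩) ⟨0, hk⟩
    apply hr
    rw [← hζ, ← hdk]
    apply orderOf_dvd_of_pow_eq_one
    have h' : ζ ^ k = ζ⁻¹ ^ d := Units.ext (e1.trans e2.symm)
    rw [pow_add, h', inv_pow, mul_inv_cancel]
  · apply Subtype.ext
    change bd A J * bd (α • 1) (β • 1) = bd (α • 1) (β • 1) * bd A J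
    rw [bd_mul, bd_mul]
    simp

/-- The Singer element in `PSL_n`. -/
theorem exists_mk_singer (hn : 1 ≤ n) : ∃ g : PSL,
    cyc (Fintype.card F) n / Nat.gcd n (Fintype.card F - 1) ∣ orderOf g := by
  obtain ⟨A, hA, hAo⟩ := exists_singer (F := F) hn
  refine ⟨QuotientGroup.mk (show SL from ⟨A, hA⟩), ?_⟩
  set o := orderOf (QuotientGroup.mk (show SL from ⟨A, hA⟩) : PSL)
  rw [Nat.div_dvd_iff_dvd_mul (gcd_dvd_cyc _ _ Fintype.card_pos) (Nat.gcd_pos_of_pos_left _ hn), ← hAo]
  apply orderOf_dvd_of_pow_eq_one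
  have h1 : (show SL from ⟨A, hA⟩) ^ o ∈ Subgroup.center SL := by
    rw [← QuotientGroup.eq_one_iff, QuotientGroup.mk_pow, pow_orderOf_eq_one]
  obtain ⟨s, hs1, hs⟩ := exists_scalar_of_mem_center h1
  rw [Matrix.SpecialLinearGroup.coe_pow] at hs
  change A ^ o = _ at hs
  have hs0 : s ≠ 0 := by rintro rfl; rw [zero_pow (by omega)] at hs1; exact zero_ne_one hs1
  rw [mul_comm, pow_mul, hs, _root_.smul_pow, one_pow,
    pow_gcd_eq_one.2 ⟨hs1, FiniteField.pow_card_sub_one_eq_one _ hs0⟩, one_smul]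

/-- The three kinds of elements: extendable by `r`, dividing the Singer bound, or regular unipotent. -/
theorem classify (p : ℕ) [Fact p.Prime] [CharP F p] (hn : 2 ≤ n) {ζ : Fˣ} {r : ℕ}
    (hζ : orderOf ζ = r) (hr : ¬ r ∣ n) (g : PSL) :
    (∃ Y Z : SL, orderOf g ∣ orderOf (QuotientGroup.mk Y : PSL) ∧ Z ^ r = 1 ∧
      Z ∉ Subgroup.center SL ∧ Commute Y Z) ∨
    orderOf g ∣ cyc (Fintype.card F) n / Nat.gcd n (Fintype.card F - 1) ∨
    ∃ j : ℕ, n - 1 = p ^ j ∧ orderOf g ∣ p ^ (j + 1) := by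
  obtain ⟨M, rfl⟩ := QuotientGroup.mk_surjective g
  rcases primary_or_decomposable (M : Matrix (Fin n) (Fin n) F) (by omega) with
    ⟨φ, e, hirr, hmon, he, hφ, hde, hch⟩ | ⟨A, B, hAB, hA, hB, hA0, hB0⟩
  swap
  · obtain ⟨Z, hZ, hZc, hcomm⟩ := exists_commuting_of_isCompl hAB hA hB hA0 hB0 hζ hr
    exact Or.inl ⟨M, Z, dvd_rfl, hZ, hZc, hcomm⟩
  have : Fact (Irreducible φ) := ⟨hirr⟩
  have hX := not_dvd_X_of_primary (by omega) hφ
  set d := φ.natDegree with hd
  have hd1 : 1 ≤ d := hirr.natDegree_pos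
  by_cases hdn : d = n
  · -- irreducible
    have he1 : e = 1 := by
      rw [hdn] at hde
      have := Nat.le_of_mul_le_mul_left (hde.trans (mul_one n).ge) (by omega)
      omega
    subst he1
    refine Or.inr (Or.inl ?_)
    have hN := root_pow_cyc_eq_one hmon (hd ▸ hdn) (hch hdn)
    obtain ⟨ν, hν⟩ := exists_dvd_X_pow_sub_C (φ := φ)
      (k := cyc (Fintype.card F) n / Nat.gcd n (Fintype.card F - 1)) (by
        have h1 : cyc (Fintype.card F) n / Nat.gcd n (Fintype.card F - 1) * (Fintype.card F - 1) =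
            cyc (Fintype.card F) n * ((Fintype.card F - 1) / Nat.gcd n (Fintype.card F - 1)) := by
          rw [Nat.div_mul_right_comm (gcd_dvd_cyc _ _ Fintype.card_pos),
            Nat.mul_div_assoc _ (Nat.gcd_dvd_right _ _)]
        rw [h1, pow_mul, hN, one_pow])
    simpa using orderOf_mk_dvd_of_primary p (c := 0) hφ hν (by simp)
  have hdlt : d < n := lt_of_le_of_ne ((Nat.le_mul_of_pos_right d he).trans hde) hdn
  obtain ⟨ν, hν⟩ := exists_dvd_X_pow_sub_C (φ := φ) (k := cyc (Fintype.card F) d)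
    (root_pow_card_sub_one hX)
  set c := Nat.clog p e
  have hp1 : 1 < p := (Fact.out : p.Prime).one_lt
  have hbound := orderOf_mk_dvd_of_primary p (c := c) hφ hν (Nat.le_pow_clog hp1 e)
  have hcl : c = 0 ∨ p ^ (c - 1) < e := by
    rcases Nat.eq_zero_or_pos c with h | h
    · exact Or.inl h
    · refine Or.inr ?_
      have he2 : 1 < e := by
        by_contra h'
        exact h.ne' (Nat.clog_of_right_le_one (by omega) p)
      exact Nat.pow_pred_clog_lt_self hp1 he2
  by_cases hek : c = 0 ∨ p ^ (c - 1) < n - d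
  · obtain ⟨Y, Z, hY, hZ, hZc, hcomm⟩ :=
      exists_block_witness p hd1 (k := n - d) (by omega) (by omega) hek hζ hr
    exact Or.inl ⟨Y, Z, hbound.trans hY, hZ, hZc, hcomm⟩
  · push Not at hek
    have hlt := hcl.resolve_left hek.1
    -- only `d = 1`, `n - 1 = p^(c-1)` is left
    have hd1' : d = 1 := by
      by_contra hne
      obtain ⟨a, ha⟩ : ∃ a, d = a + 2 := ⟨d - 2, by omega⟩
      have h2e : 2 * e + a * e ≤ n := by rw [← add_mul, add_comm 2 a, ← ha]; exact hde
      have h2 : 2 ≤ e := by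
        by_contra hh
        have : e = 1 := by omega
        rw [this] at hlt
        exact absurd hlt (not_lt.2 (Nat.one_le_pow _ _ (by omega)))
      have hae : 2 * a ≤ a * e := by rw [mul_comm a e]; exact Nat.mul_le_mul_right a h2
      omega
    rw [hd1'] at hek hde hbound
    refine Or.inr (Or.inr ⟨c - 1, by omega, ?_⟩)
    rw [Nat.sub_add_cancel (Nat.pos_of_ne_zero hek.1)]
    simpa [cyc] using hbound

end CfsgLib.SpecLin.PSLOrders
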