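import Mathlib

/-!
Elements of prescribed order in GL_n / SL_n, and gcd/lcm bookkeeping for spectra.
-/

set_option autoImplicit false

namespace CfsgLib.SpecLin

theorem gcd_finset_lcm {ι : Type*} (s : Finset ι) (f : ι → ℕ) (m : ℕ) :
    Nat.gcd m (s.lcm f) = s.lcm fun i => Nat.gcd m (f i) := by
  classical
  induction s using Finset.induction_on with
  | empty => simp
  | insert a s _ ih =>
    rw [Finset.lcm_insert, Finset.lcm_insert, ← ih]
    apply Nat.dvd_antisymm
    · rcases eq_or_ne m 0 with rfl | hm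
      · simp [lcm_eq_nat_lcm]
      rcases eq_or_ne (f a) 0 with h | ha
      · simp [h, lcm_eq_nat_lcm, Nat.dvd_lcm_left]
      rcases eq_or_ne (s.lcm f) 0 with h | hs
      · simp [h, lcm_eq_nat_lcm, Nat.dvd_lcm_right]
      rw [lcm_eq_nat_lcm, lcm_eq_nat_lcm]
      rw [← Nat.factorization_le_iff_dvd (Nat.gcd_ne_zero_left hm)
        (Nat.lcm_ne_zero (Nat.gcd_ne_zero_left hm) (Nat.gcd_ne_zero_left hm))]
      rw [Nat.factorization_gcd hm (Nat.lcm_ne_zero ha hs),
        Nat.factorization_lcm (Nat.gcd_ne_zero_left hm) (Nat.gcd_ne_zero_left hm),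
        Nat.factorization_lcm ha hs, Nat.factorization_gcd hm ha, Nat.factorization_gcd hm hs]
      intro p
      simp only [Finsupp.inf_apply, Finsupp.sup_apply]
      omega
    · rw [lcm_eq_nat_lcm, lcm_eq_nat_lcm]
      exact Nat.lcm_dvd (Nat.gcd_dvd_gcd_of_dvd_right _ (Nat.dvd_lcm_left _ _))
        (Nat.gcd_dvd_gcd_of_dvd_right _ (Nat.dvd_lcm_right _ _))

/-- Divisors of element orders are element orders. -/
theorem exists_orderOf_eq_of_dvd {G : Type*} [Monoid G] {x : G} (hx : orderOf x ≠ 0) {m : ℕ}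
    (hm : m ∣ orderOf x) : ∃ y : G, orderOf y = m := by
  obtain ⟨c, hc⟩ := hm
  refine ⟨x ^ c, ?_⟩
  have hc0 : c ≠ 0 := by rintro rfl; exact hx (by rw [hc, mul_zero])
  rw [orderOf_pow' x hc0, hc, Nat.gcd_mul_left_left, Nat.mul_div_cancel _ (Nat.pos_of_ne_zero hc0)]

end CfsgLib.SpecLin
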