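import Mathlib
import Cfsg.Agent.Classical.SLBasic
import Cfsg.Agent.Lib.SpecLin.PSLOrders
import Cfsg.Agent.Lib.SpecLin.OrderBasics
import Cfsg.Agent.Lib.SpecLin.FieldEmbed

/-!
Adjacency in the prime graph of `PSL_n(q)`: semisimple and mixed elements.
-/

set_option autoImplicit false

namespace CfsgLib.SpecLin.PrimeGraph

open Matrix Polynomial

variable {F : Type*} [Field F] [Fintype F] {n : ℕ}

local notation "SL" => Matrix.SpecialLinearGroup (Fin n) F
local notation "PSL" => Matrix.ProjectiveSpecialLinearGroup (Fin n) F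

omit [Fintype F] in
theorem mk_map_pow (M : SL) (m : ℕ) : ((M ^ m : SL) : Matrix (Fin n) (Fin n) F) =
    (M : Matrix (Fin n) (Fin n) F) ^ m := Matrix.SpecialLinearGroup.coe_pow M m

theorem center_pow_card_sub_one {M : SL} (h : M ∈ Subgroup.center SL) (hn : 1 ≤ n) :
    M ^ (Fintype.card F - 1) = 1 := by
  obtain ⟨s, hs, hM⟩ := PSLOrders.exists_scalar_of_mem_center h
  have hs0 : s ≠ 0 := by rintro rfl; rw [zero_pow (by omega)] at hs; exact zero_ne_one hs
  apply Subtype.ext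
  rw [mk_map_pow, hM, _root_.smul_pow, one_pow, FiniteField.pow_card_sub_one_eq_one _ hs0, one_smul]
  rfl

/-- An order prime to `q - 1` survives in the quotient. -/
theorem dvd_orderOf_mk {M : SL} {m : ℕ} (hn : 1 ≤ n) (hm : Nat.Coprime m (Fintype.card F - 1))
    (h : m ∣ orderOf M) : m ∣ orderOf (QuotientGroup.mk M : PSL) := by
  set o := orderOf (QuotientGroup.mk M : PSL)
  have h1 : M ^ o ∈ Subgroup.center SL := by
    rw [← QuotientGroup.eq_one_iff, QuotientGroup.mk_pow, pow_orderOf_eq_one]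
  have h2 := center_pow_card_sub_one h1 hn
  rw [← pow_mul] at h2
  exact hm.dvd_mul_right.1 (h.trans (orderOf_dvd_of_pow_eq_one h2))

theorem orderOf_coe (M : SL) : orderOf (M : Matrix (Fin n) (Fin n) F) = orderOf M :=
  orderOf_injective (⟨⟨Subtype.val, rfl⟩, fun _ _ => rfl⟩ : SL →* Matrix (Fin n) (Fin n) F)
    Subtype.val_injective M

theorem exists_order_iff {m : ℕ} (hn : 1 ≤ n) (hm : Nat.Coprime m (Fintype.card F - 1)) :
    m ∈ Set.range (orderOf : PSL → ℕ) ↔ ∃ M : SL, orderOf (M : Matrix (Fin n) (Fin n) F) = m := by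
  constructor
  · rintro ⟨g, rfl⟩
    obtain ⟨M, rfl⟩ := QuotientGroup.mk_surjective g
    obtain ⟨y, hy⟩ := exists_orderOf_eq_of_dvd (orderOf_pos M).ne'
      (orderOf_map_dvd (QuotientGroup.mk' (Subgroup.center SL)) M)
    exact ⟨y, (orderOf_coe y).trans hy⟩
  · rintro ⟨M, hM⟩
    rw [orderOf_coe] at hM
    exact exists_orderOf_eq_of_dvd (orderOf_pos _).ne'
      (dvd_orderOf_mk hn hm hM.symm.dvd)

omit [Fintype F] in
/-- An irreducible factor escaping a squarefree polynomial. -/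
theorem exists_irreducible_not_dvd {μ f : F[X]} (hμ : μ ≠ 0) (hsq : Squarefree μ) (h : ¬ μ ∣ f) :
    ∃ g, Irreducible g ∧ g ∣ μ ∧ ¬ g ∣ f := by
  by_contra hcon
  push Not at hcon
  obtain ⟨N, hN⟩ := exists_dvd_pow_of_prime_dvd (b := f) hμ fun g hg hd => hcon g hg.irreducible hd
  exact h (hsq.isRadical N f hN)

omit [Fintype F] in
/-- A repeated irreducible factor. -/
theorem exists_sq_dvd {μ f : F[X]} {N : ℕ} (hN : μ ∣ f ^ N) (h : ¬ μ ∣ f) :
    ∃ g, Irreducible g ∧ g * g ∣ μ := by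
  by_contra hcon
  push Not at hcon
  have hsq : Squarefree μ := by
    rw [squarefree_iff_irreducible_sq_not_dvd_of_exists_irreducible ⟨X, Polynomial.irreducible_X⟩]
    exact hcon
  exact h (hsq.isRadical N f hN)

/-- The degree of a factor whose root has order divisible by `r`. -/
theorem order_dvd_natDegree {g : F[X]} (hg : Irreducible g) {a b r : ℕ} [Fact r.Prime]
    (hab : a = r * b) (ha : g ∣ X ^ a - 1) (hb : ¬ g ∣ X ^ b - 1) (ha0 : a ≠ 0) :
    orderOf ((Fintype.card F : ℕ) : ZMod r) ∣ g.natDegree ∧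
      (orderOf ((Fintype.card F : ℕ) : ZMod r) ≠ 0) := by
  have : Fact (Irreducible g) := ⟨hg⟩
  set ρ := AdjoinRoot.root g
  have h1 : ρ ^ a = 1 := by
    rw [← AdjoinRoot.mk_eq_zero, map_sub, map_pow, AdjoinRoot.mk_X, map_one, sub_eq_zero] at ha
    exact ha
  have h2 : ρ ^ b ≠ 1 := fun h => hb (by
    rw [← AdjoinRoot.mk_eq_zero, map_sub, map_pow, AdjoinRoot.mk_X, map_one, sub_eq_zero]
    exact h)
  have hX : ¬ g ∣ X := by
    intro hX
    have h0 : ρ = 0 := by
      have := AdjoinRoot.mk_eq_zero.2 hX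
      rwa [AdjoinRoot.mk_X] at this
    rw [h0, zero_pow ha0] at h1
    exact zero_ne_one h1
  have h3 := PSLOrders.root_pow_card_sub_one hX
  rw [PSLOrders.cyc_mul _ _ Fintype.card_pos] at h3
  have hr : r ∣ orderOf ρ := by
    by_contra hr
    apply h2
    rw [← orderOf_dvd_iff_pow_eq_one]
    exact ((((Nat.Prime.coprime_iff_not_dvd Fact.out).2 hr).symm).dvd_mul_left).1
      (hab ▸ orderOf_dvd_of_pow_eq_one h1)
  have h4 : r ∣ Fintype.card F ^ g.natDegree - 1 := hr.trans (orderOf_dvd_of_pow_eq_one h3)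
  have h5 : ((Fintype.card F : ℕ) : ZMod r) ^ g.natDegree = 1 := by
    have := (ZMod.natCast_eq_zero_iff _ _).2 h4
    rw [Nat.cast_sub (Nat.one_le_pow _ _ Fintype.card_pos), sub_eq_zero, Nat.cast_pow,
      Nat.cast_one] at this
    exact this
  refine ⟨orderOf_dvd_of_pow_eq_one h5, ?_⟩
  intro h0
  rw [orderOf_eq_zero_iff'] at h0
  exact h0 _ hg.natDegree_pos h5

theorem dvd_cyc {r d : ℕ} [Fact r.Prime]
    (h1 : orderOf ((Fintype.card F : ℕ) : ZMod r) ≠ 1)
    (hd : orderOf ((Fintype.card F : ℕ) : ZMod r) ∣ d) :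
    r ∣ PSLOrders.cyc (Fintype.card F) d := by
  have h5 := orderOf_dvd_iff_pow_eq_one.1 hd
  have h4 : r ∣ Fintype.card F ^ d - 1 := by
    rw [← ZMod.natCast_eq_zero_iff, Nat.cast_sub (Nat.one_le_pow _ _ Fintype.card_pos),
      Nat.cast_pow, h5, Nat.cast_one, sub_self]
  rw [← PSLOrders.cyc_mul _ _ Fintype.card_pos] at h4
  refine ((Fact.out : r.Prime).dvd_mul.1 h4).resolve_right fun h => h1 ?_
  rw [orderOf_eq_one_iff]
  have := (ZMod.natCast_eq_zero_iff _ _).2 h
  rwa [Nat.cast_sub Fintype.card_pos, Nat.cast_one, sub_eq_zero] at this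

theorem not_dvd_card_sub_one {r : ℕ} [Fact r.Prime]
    (h1 : orderOf ((Fintype.card F : ℕ) : ZMod r) ≠ 1) : ¬ r ∣ Fintype.card F - 1 := by
  intro h
  apply h1
  rw [orderOf_eq_one_iff]
  have := (ZMod.natCast_eq_zero_iff _ _).2 h
  rwa [Nat.cast_sub Fintype.card_pos, Nat.cast_one, sub_eq_zero] at this

/-- The multiplicative order of `q` modulo a prime divisor of the order is at most `n`. -/
theorem order_le {r : ℕ} [hr : Fact r.Prime] (hn : 1 ≤ n) (p : ℕ) [Fact p.Prime] [CharP F p]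
    (hrp : r ≠ p) (h : r ∣ Nat.card PSL) :
    orderOf ((Fintype.card F : ℕ) : ZMod r) ≤ n ∧ orderOf ((Fintype.card F : ℕ) : ZMod r) ≠ 0 := by
  have h2 : r ∣ ∏ i : Fin n, (Fintype.card F ^ n - Fintype.card F ^ (i : ℕ)) := by
    rw [← Cfsg.Agent.Classical.card_psl_mul n hn]
    exact (h.mul_left _).mul_left _
  obtain ⟨i, -, hi⟩ := (Prime.dvd_finsetProd_iff hr.out.prime _).1 h2
  obtain ⟨f, hfp, hf⟩ := FiniteField.card F p
  have hsplit : Fintype.card F ^ n - Fintype.card F ^ (i : ℕ) =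
      Fintype.card F ^ (i : ℕ) * (Fintype.card F ^ (n - (i : ℕ)) - 1) := by
    rw [Nat.mul_sub, mul_one, ← pow_add, Nat.add_sub_cancel' (le_of_lt i.2)]
  rw [hsplit] at hi
  rcases hr.out.dvd_mul.1 hi with h | h
  · rw [hf] at h
    exact absurd ((Nat.prime_dvd_prime_iff_eq hr.out hfp).1
      (hr.out.dvd_of_dvd_pow (hr.out.dvd_of_dvd_pow h))) hrp
  · have h5 : ((Fintype.card F : ℕ) : ZMod r) ^ (n - (i : ℕ)) = 1 := by
      have := (ZMod.natCast_eq_zero_iff _ _).2 h
      rwa [Nat.cast_sub (Nat.one_le_pow _ _ Fintype.card_pos), sub_eq_zero, Nat.cast_pow,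
        Nat.cast_one] at this
    have hpos : 0 < n - (i : ℕ) := by omega
    refine ⟨(Nat.le_of_dvd hpos (orderOf_dvd_of_pow_eq_one h5)).trans (by omega), fun h0 => ?_⟩
    rw [orderOf_eq_zero_iff'] at h0
    exact h0 _ hpos h5

omit [Fintype F] in
/-- Block diagonal product of two special linear groups. -/
theorem exists_blocks {d e : ℕ} (hde : d + e = n) :
    ∃ φ : Matrix (Fin d) (Fin d) F × Matrix (Fin e) (Fin e) F →* Matrix (Fin n) (Fin n) F,
      Function.Injective φ ∧ (∀ X W, (φ (X, W)).det = X.det * W.det) ∧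
        ∀ c : F, φ (c • 1, c • 1) = c • 1 := by
  let ε : Fin d ⊕ Fin e ≃ Fin n := finSumFinEquiv.trans (finCongr hde)
  refine ⟨{
    toFun := fun v => (Matrix.fromBlocks v.1 0 0 v.2).submatrix ε.symm ε.symm
    map_one' := by rw [Prod.fst_one, Prod.snd_one, Matrix.fromBlocks_one, Matrix.submatrix_one_equiv]
    map_mul' := fun v w => by
      rw [Matrix.submatrix_mul_equiv, Matrix.fromBlocks_multiply]; simp }, ?_, ?_, ?_⟩
  · rintro ⟨X, W⟩ ⟨X', W'⟩ h
    have h' := congrArg (fun T => T.submatrix ε ε) h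
    simp only [MonoidHom.coe_mk, OneHom.coe_mk, Matrix.submatrix_submatrix, Equiv.symm_comp_self,
      Matrix.submatrix_id_id] at h'
    have := Matrix.fromBlocks_inj.1 h'
    exact Prod.ext this.1 this.2.2.2
  · intro X W
    simp only [MonoidHom.coe_mk, OneHom.coe_mk, Matrix.det_submatrix_equiv_self,
      Matrix.det_fromBlocks_zero₂₁]
  · intro c
    simp only [MonoidHom.coe_mk, OneHom.coe_mk]
    have h : Matrix.fromBlocks (c • (1 : Matrix (Fin d) (Fin d) F)) 0 0
        (c • (1 : Matrix (Fin e) (Fin e) F)) = c • (1 : Matrix (Fin d ⊕ Fin e) (Fin d ⊕ Fin e) F) := by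
      rw [← Matrix.fromBlocks_one, Matrix.fromBlocks_smul, smul_zero, smul_zero]
    rw [h, Matrix.submatrix_smul]
    show c • (1 : Matrix (Fin d ⊕ Fin e) (Fin d ⊕ Fin e) F).submatrix ε.symm ε.symm = c • 1
    rw [Matrix.submatrix_one_equiv]

omit [Fintype F] in
/-- A second irreducible factor when the polynomial is not a power of `L`. -/
theorem exists_other {μ f L : F[X]} {p : ℕ} (hf : Squarefree f) (hμ : μ ≠ 0) (hd : μ ∣ f ^ p)
    (hLf : L ∣ f) (h : ¬ μ ∣ L ^ p) : ∃ g, Irreducible g ∧ g ∣ μ ∧ g ∣ f ∧ ¬ g ∣ L := by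
  by_contra hcon
  push Not at hcon
  have hall : ∀ g, Prime g → g ∣ μ → g ∣ L := fun g hg hgd =>
    hcon g hg.irreducible hgd (hg.dvd_of_dvd_pow (hgd.trans hd))
  obtain ⟨N, hN⟩ := exists_dvd_pow_of_prime_dvd (b := L) hμ hall
  obtain ⟨R, rfl⟩ := hLf
  have hco : IsCoprime (L ^ N) (R ^ p) := ((squarefree_mul_iff.1 hf).1.isCoprime).pow
  rw [mul_pow] at hd
  exact h ((hco.of_isCoprime_of_dvd_left hN).dvd_of_dvd_mul_right hd)

omit [Fintype F] in
theorem exists_block_det {d n : ℕ} (h : d ≤ n) (A : Matrix (Fin d) (Fin d) F) (hA : A.det = 1) :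
    ∃ M : Matrix (Fin n) (Fin n) F, M.det = 1 ∧ orderOf M = orderOf A :=
  ⟨blockEmbed F h A, by rw [det_blockEmbed, hA],
    orderOf_injective (blockEmbed F h) (blockEmbed_injective F h) A⟩

omit [Fintype F] in
theorem minpoly_dvd_of_pow {M : Matrix (Fin n) (Fin n) F} {m : ℕ} {c : F}
    (h : M ^ m = c • 1) : minpoly F M ∣ X ^ m - C c :=
  minpoly.dvd F M (by simp [h, Algebra.algebraMap_eq_smul_one])

omit [Fintype F] in
theorem pow_eq_of_minpoly_dvd {M : Matrix (Fin n) (Fin n) F} {m : ℕ} {c : F}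
    (h : minpoly F M ∣ X ^ m - C c) : M ^ m = c • 1 := by
  obtain ⟨t, ht⟩ := h
  have h' := congrArg (aeval M) ht
  rw [map_mul, minpoly.aeval, zero_mul] at h'
  simpa [Algebra.algebraMap_eq_smul_one, sub_eq_zero] using h'

omit [Fintype F] in
theorem natDegree_minpoly_le (M : Matrix (Fin n) (Fin n) F) : (minpoly F M).natDegree ≤ n := by
  have h := natDegree_le_of_dvd (Matrix.minpoly_dvd_charpoly M) M.charpoly_monic.ne_zero
  simpa [Matrix.charpoly_natDegree_eq_dim] using h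

end CfsgLib.SpecLin.PrimeGraph
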