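import Mathlib
import Cfsg.Agent.Lib.SpecLin.SLTwoClassSize

/-!
Witnesses for the class sizes of `PSL_2` of a finite field.
-/

set_option autoImplicit false

namespace CfsgLib.SpecLin.SLTwo

open Matrix

variable {F : Type*} [Field F]

/-- The companion element of given trace. -/
def compSL (t : F) : Matrix.SpecialLinearGroup (Fin 2) F := ⟨comp t, det_comp t⟩

theorem compSL_trace (t : F) :
    (compSL t : Matrix (Fin 2) (Fin 2) F).trace = t := trace_comp t

theorem compSL_nonscalar (t : F) (s : F) :
    (compSL t : Matrix (Fin 2) (Fin 2) F) ≠ s • 1 := fun h => by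
  have h10 : comp t 1 0 = (s • (1 : Matrix (Fin 2) (Fin 2) F)) 1 0 := congrFun (congrFun h 1) 0
  simp [comp] at h10

variable [Fintype F]

theorem mk_eq_one_of_scalar {X : Matrix.SpecialLinearGroup (Fin 2) F} {s : F}
    (h : (X : Matrix (Fin 2) (Fin 2) F) = s • 1) :
    (QuotientGroup.mk X : Matrix.ProjectiveSpecialLinearGroup (Fin 2) F) = 1 :=
  (QuotientGroup.eq_one_iff _).2 (mem_center_of_scalar h)

theorem index_centralizer_one (G : Type*) [Group G] :
    (Subgroup.centralizer ({1} : Set G)).index = 1 := by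
  rw [Subgroup.index_eq_one, eq_top_iff]
  intro x _
  simp [Subgroup.mem_centralizer_singleton_iff]

theorem roots_two_of_split {r : F} (hr : r ≠ 0) :
    (roots (r + r⁻¹)).card ≠ 0 := by
  refine roots_of_root (r := r) ?_
  rw [add_sub_cancel_left, mul_inv_cancel₀ hr, sub_self]

/-- Twice the number of traces with a root is at most `q - 1` plus the number of units squaring
to `1`. -/
theorem card_split_le [DecidableEq F] :
    2 * (Finset.univ.image fun r : Fˣ => (r : F) + (r : F)⁻¹).card ≤
      (Fintype.card F - 1) + (Finset.univ.filter fun r : Fˣ => r * r = 1).card := by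
  set φ := fun r : Fˣ => (r : F) + (r : F)⁻¹
  have h1 : Fintype.card F - 1 = ∑ t ∈ Finset.univ.image φ, (Finset.univ.filter fun r => φ r = t).card := by
    rw [← Finset.card_eq_sum_card_image, Finset.card_univ, ← Nat.card_eq_fintype_card,
      ← Nat.card_eq_fintype_card, Nat.card_units]
  have h2 : (Finset.univ.filter fun r : Fˣ => r * r = 1).card =
      ∑ t ∈ Finset.univ.image φ,
        ((Finset.univ.filter fun r : Fˣ => r * r = 1).filter fun r => φ r = t).card :=
    Finset.card_eq_sum_card_fiberwise fun r _ => Finset.mem_image_of_mem φ (Finset.mem_univ r)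
  rw [h1, h2, ← Finset.sum_add_distrib, Finset.card_eq_sum_ones, Finset.mul_sum]
  refine Finset.sum_le_sum fun t ht => ?_
  obtain ⟨r, -, hr⟩ := Finset.mem_image.1 ht
  by_cases hrr : r * r = 1
  · have a1 : 0 < (Finset.univ.filter fun r => φ r = t).card :=
      Finset.card_pos.2 ⟨r, by simp [hr]⟩
    have a2 : 0 < ((Finset.univ.filter fun r : Fˣ => r * r = 1).filter fun r => φ r = t).card :=
      Finset.card_pos.2 ⟨r, by simp [hr, hrr]⟩
    omega
  · have hne : r ≠ r⁻¹ := fun e => hrr (by nth_rewrite 2 [e]; exact mul_inv_cancel r)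
    have hsub : ({r, r⁻¹} : Finset Fˣ) ⊆ Finset.univ.filter fun r => φ r = t := by
      intro x hx
      simp only [Finset.mem_insert, Finset.mem_singleton] at hx
      rcases hx with rfl | rfl
      · simp [hr]
      · simp only [Finset.mem_filter, Finset.mem_univ, true_and]
        rw [← hr]
        simp only [φ, Units.val_inv_eq_inv_val, inv_inv]
        exact add_comm _ _
    have := Finset.card_le_card hsub
    rw [Finset.card_pair hne] at this
    omega

theorem card_sq_one_le [DecidableEq F] :
    (Finset.univ.filter fun r : Fˣ => r * r = 1).card ≤ 2 ∧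
      ((2 : F) = 0 → (Finset.univ.filter fun r : Fˣ => r * r = 1).card ≤ 1) := by
  have hmem : ∀ r : Fˣ, r * r = 1 → r = 1 ∨ r = -1 := fun r h => by
    rcases mul_self_eq_one_iff.1 (show (r : F) * r = 1 by rw [← Units.val_mul, h, Units.val_one])
      with h | h
    · exact Or.inl (Units.ext h)
    · exact Or.inr (Units.ext (by simpa using h))
  refine ⟨(Finset.card_le_card (t := {1, -1}) fun r hr => ?_).trans Finset.card_le_two,
    fun h2 => (Finset.card_le_card (t := {1}) fun r hr => ?_).trans (Finset.card_singleton 1).le⟩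
  · simp only [Finset.mem_filter, Finset.mem_univ, true_and] at hr
    simp only [Finset.mem_insert, Finset.mem_singleton]
    exact hmem r hr
  · simp only [Finset.mem_filter, Finset.mem_univ, true_and] at hr
    rcases hmem r hr with h | h
    · simp [h]
    · have : (-1 : F) = 1 := by linear_combination -h2
      rw [Finset.mem_singleton, h]
      exact Units.ext (by simpa using this)

theorem roots_zero_of_not_split [DecidableEq F] {t : F}
    (ht : t ∉ Finset.univ.image fun r : Fˣ => (r : F) + (r : F)⁻¹) : (roots t).card = 0 := by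
  classical
  rw [Finset.card_eq_zero, Finset.eq_empty_iff_forall_notMem]
  intro r hr
  simp only [roots, Finset.mem_filter, Finset.mem_univ, true_and] at hr
  have h1 : r * (t - r) = 1 := sub_eq_zero.1 hr
  refine ht (Finset.mem_image.2 ⟨Units.mk0 r (left_ne_zero_of_mul_eq_one h1), Finset.mem_univ _, ?_⟩)
  rw [Units.val_mk0, inv_eq_of_mul_eq_one_right h1]
  ring

theorem exists_nonsplit_trace (h : (2 : F) = 0 ∧ 4 ≤ Fintype.card F ∨
    (2 : F) ≠ 0 ∧ 7 ≤ Fintype.card F) :
    ∃ t : F, t ≠ 0 ∧ (roots t).card = 0 ∧ ((2 : F) = 0 ∨ t ^ 2 ≠ 4) := by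
  classical
  obtain ⟨b1, b2⟩ := card_sq_one_le (F := F)
  have hle := card_split_le (F := F)
  set R := Finset.univ.image fun r : Fˣ => (r : F) + (r : F)⁻¹
  have hlt : (insert 0 R).card < Fintype.card F := by
    have := Finset.card_insert_le (0 : F) R
    rcases h with ⟨h2, hq⟩ | ⟨-, hq⟩
    · have h0 : (0 : F) ∈ R := Finset.mem_image.2 ⟨1, Finset.mem_univ _, by
        rw [Units.val_one, inv_one]; linear_combination h2⟩
      rw [Finset.insert_eq_of_mem h0]
      have := b2 h2
      omega
    · omega
  obtain ⟨t, ht⟩ := Finset.exists_mem_notMem_of_card_lt_card (s := insert 0 R) (t := Finset.univ)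
    (by rwa [Finset.card_univ]) |>.imp fun t h => h.2
  rw [Finset.mem_insert, not_or] at ht
  refine ⟨t, ht.1, roots_zero_of_not_split ht.2, ?_⟩
  rcases h with ⟨h2, -⟩ | ⟨h2, -⟩
  · exact Or.inl h2
  · refine Or.inr fun h4 => ht.2 ?_
    rcases sq_eq_sq_iff_eq_or_eq_neg.1 (show t ^ 2 = 2 ^ 2 by rw [h4]; norm_num) with e | e
    · exact Finset.mem_image.2 ⟨1, Finset.mem_univ _, by rw [e]; simp; norm_num⟩
    · exact Finset.mem_image.2 ⟨-1, Finset.mem_univ _, by rw [e]; simp; norm_num⟩

theorem exists_split_trace (h : (2 : F) = 0 ∧ 4 ≤ Fintype.card F ∨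
    (2 : F) ≠ 0 ∧ 7 ≤ Fintype.card F) :
    ∃ t : F, t ≠ 0 ∧ (roots t).card ≠ 0 ∧ ((2 : F) = 0 ∨ t ^ 2 ≠ 4) := by
  classical
  have hp : ((Polynomial.X : Polynomial F) ^ 4 - 1) ≠ 0 := by
    rw [← Polynomial.C_1]
    exact Polynomial.X_pow_sub_C_ne_zero (by norm_num) 1
  set B : Finset F := insert 0 (Polynomial.roots ((Polynomial.X : Polynomial F) ^ 4 - 1)).toFinset
  have hB : B.card < Fintype.card F := by
    rcases h with ⟨h2, hq⟩ | ⟨-, hq⟩
    · have : B ⊆ {0, 1} := by
        intro r hr
        simp only [B, Finset.mem_insert, Multiset.mem_toFinset, Polynomial.mem_roots hp] at hr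
        simp only [Finset.mem_insert, Finset.mem_singleton]
        refine hr.imp id fun hr => ?_
        simp at hr
        have : (r - 1) ^ 4 = 0 := by
          linear_combination hr + (-2 * r ^ 3 + 3 * r ^ 2 - 2 * r + 1) * h2
        exact sub_eq_zero.1 (pow_eq_zero_iff (by norm_num) |>.1 this)
      have := (Finset.card_le_card this).trans Finset.card_le_two
      omega
    · have h1 : B.card ≤
          (Polynomial.roots ((Polynomial.X : Polynomial F) ^ 4 - 1)).toFinset.card + 1 :=
        Finset.card_insert_le _ _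
      have h3 := (Multiset.toFinset_card_le _).trans
        (Polynomial.card_roots' ((Polynomial.X : Polynomial F) ^ 4 - 1))
      have h4 : ((Polynomial.X : Polynomial F) ^ 4 - 1).natDegree = 4 := by
        rw [← Polynomial.C_1, Polynomial.natDegree_X_pow_sub_C]
      rw [h4] at h3
      omega
  obtain ⟨r, hr⟩ := Finset.exists_mem_notMem_of_card_lt_card (s := B) (t := Finset.univ)
    (by rwa [Finset.card_univ]) |>.imp fun r h => h.2
  simp [B, Polynomial.mem_roots hp, sub_eq_zero] at hr
  obtain ⟨hr0, hr4⟩ := hr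
  refine ⟨r + r⁻¹, fun h0 => hr4 ?_, roots_two_of_split hr0, ?_⟩
  · field_simp at h0
    linear_combination (r ^ 2 - 1) * h0
  · rcases h with ⟨h2, -⟩ | ⟨h2, -⟩
    · exact Or.inl h2
    · refine Or.inr fun h4 => hr4 ?_
      field_simp at h4
      have : r ^ 2 - 1 = 0 := by
        have h' : (r ^ 2 - 1) ^ 2 = 0 := by linear_combination h4
        exact (pow_eq_zero_iff (by norm_num)).1 h'
      linear_combination (r ^ 2 + 1) * this

end CfsgLib.SpecLin.SLTwo
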