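import Mathlib
import Cfsg.Agent.Lib.SpecLin.PSLOrders
import Cfsg.Agent.Lib.SpecLin.PrimeGraph

/-!
The element orders of `PSL_3(q)`.
-/

set_option autoImplicit false

namespace CfsgLib.SpecLin.PSLThree

open Matrix Polynomial

variable {F : Type*} [Field F] [Fintype F]

local notation "q" => Fintype.card F
local notation "d" => Nat.gcd 3 (Fintype.card F - 1)
local notation "SL" => Matrix.SpecialLinearGroup (Fin 3) F
local notation "PSL" => Matrix.ProjectiveSpecialLinearGroup (Fin 3) F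

omit [Fintype F] in
theorem orderOf_dvd_of_charpoly_dvd {M : SL} {k : ℕ} {ν : F}
    (h : (M : Matrix (Fin 3) (Fin 3) F).charpoly ∣ X ^ k - C ν) :
    orderOf (QuotientGroup.mk M : PSL) ∣ k :=
  PSLOrders.orderOf_mk_dvd_of_pow_eq_scalar
    (PrimeGraph.pow_eq_of_minpoly_dvd ((Matrix.minpoly_dvd_charpoly _).trans h))

theorem pow_gcd_mul {u : F} (hu : u ≠ 0) {k : ℕ} (h : u ^ (3 * k) = 1) : u ^ (d * k) = 1 := by
  rw [Nat.mul_comm, pow_mul] at h
  rw [Nat.mul_comm, pow_mul]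
  exact pow_gcd_eq_one.2 ⟨h, FiniteField.pow_card_sub_one_eq_one _ (pow_ne_zero _ hu)⟩

theorem pow_three_mul_div {u : F} (hu : u ≠ 0) : u ^ (3 * ((q - 1) / d)) = 1 := by
  obtain ⟨e, he⟩ := Nat.gcd_dvd_left 3 (q - 1)
  have h1 : d * ((q - 1) / d) = q - 1 := Nat.mul_div_cancel' (Nat.gcd_dvd_right _ _)
  have h : 3 * ((q - 1) / d) = (q - 1) * e :=
    calc 3 * ((q - 1) / d) = d * e * ((q - 1) / d) := congrArg (· * ((q - 1) / d)) he
      _ = d * ((q - 1) / d) * e := by ring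
      _ = (q - 1) * e := by rw [h1]
  rw [h, pow_mul, FiniteField.pow_card_sub_one_eq_one _ hu, one_pow]

/-- One root in the field and an irreducible quadratic factor. -/
theorem mixed_dvd {a : F} {Q : F[X]} (hQm : Q.Monic) (hQd : Q.natDegree = 2) (hQi : Irreducible Q)
    (hdet : a * Q.coeff 0 = 1) :
    (X - C a) * Q ∣ X ^ ((q ^ 2 - 1) / d) - C (a ^ ((q ^ 2 - 1) / d)) := by
  have : Fact (Irreducible Q) := ⟨hQi⟩
  set k := (q ^ 2 - 1) / d
  set ρ := AdjoinRoot.root Q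
  have h0 : Q.coeff 0 ≠ 0 := fun h => by rw [h, mul_zero] at hdet; exact zero_ne_one hdet
  have hX : ¬ Q ∣ X := fun h => by
    have := natDegree_le_of_dvd h X_ne_zero
    rw [natDegree_X] at this
    omega
  have hQ : Q = X ^ 2 + C (Q.coeff 1) * X + C (Q.coeff 0) := by
    conv_lhs => rw [Q.as_sum_range_C_mul_X_pow, hQd]
    have h2 : Q.coeff 2 = 1 := by rw [← hQd]; exact hQm
    simp [Finset.sum_range_succ, h2]
    ring
  set ι := algebraMap F (AdjoinRoot Q)
  have hρ : ρ ^ 2 + ι (Q.coeff 1) * ρ + ι (Q.coeff 0) = 0 := by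
    have h := AdjoinRoot.mk_self (f := Q)
    rw [congrArg (AdjoinRoot.mk Q) hQ] at h
    simpa [AdjoinRoot.algebraMap_eq, ι, ρ] using h
  have hfr : (ρ ^ q) ^ 2 + ι (Q.coeff 1) * ρ ^ q + ι (Q.coeff 0) = 0 := by
    obtain ⟨p, hp⟩ := CharP.exists F
    obtain ⟨f, hfp, hf⟩ := FiniteField.card F p
    have : Fact p.Prime := ⟨hfp⟩
    have : CharP (AdjoinRoot Q) p := charP_of_injective_algebraMap ι.injective p
    have h := congrArg (fun x => x ^ q) hρ
    simp only [hf, add_pow_char_pow, mul_pow] at h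
    simp only [← hf, ← map_pow, FiniteField.pow_card] at h
    rw [zero_pow Fintype.card_ne_zero, pow_right_comm] at h
    exact h
  have hne : ρ ^ q - ρ ≠ 0 := by
    intro h
    obtain ⟨c, hc⟩ := PSLOrders.mem_range_of_pow_card (F := F) (x := ρ) (sub_eq_zero.1 h)
    have hd : Q ∣ X - C c := by
      rw [← AdjoinRoot.mk_eq_zero, map_sub, AdjoinRoot.mk_X, AdjoinRoot.mk_C,
        ← AdjoinRoot.algebraMap_eq, hc, sub_self]
    have := natDegree_le_of_dvd hd (X_sub_C_ne_zero c)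
    rw [natDegree_X_sub_C] at this
    omega
  have hnorm : ρ ^ q * ρ = ι (Q.coeff 0) := by
    have h1 : ρ ^ q + ρ + ι (Q.coeff 1) = 0 := by
      refine (mul_eq_zero.1 (show (ρ ^ q - ρ) * (ρ ^ q + ρ + ι (Q.coeff 1)) = 0 by
        linear_combination hfr - hρ)).resolve_left hne
    linear_combination (ρ : AdjoinRoot Q) * h1 - hρ
  have hρk : ρ ^ k = ι (a ^ k) := by
    have hord := PSLOrders.root_pow_card_sub_one hX
    rw [hQd, PSLOrders.cyc_mul _ _ Fintype.card_pos] at hord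
    have hd3 : d ∣ q + 2 := by
      have h1 := Nat.gcd_dvd_left 3 (q - 1)
      have h2 := Nat.gcd_dvd_right 3 (q - 1)
      have h3 : q + 2 = (q - 1) + 3 := by
        have := Fintype.card_pos (α := F); omega
      rw [h3]; exact Nat.dvd_add h2 h1
    have hd2 : d ∣ q ^ 2 - 1 := (Nat.gcd_dvd_right 3 _).trans (Nat.sub_one_dvd_pow_sub_one q 2)
    have hone : ρ ^ (k * (q + 2)) = 1 := by
      obtain ⟨e, he⟩ := hd3
      have : k * (q + 2) = (q ^ 2 - 1) * e := by
        rw [he, ← Nat.mul_assoc, Nat.div_mul_cancel hd2]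
      rw [this, pow_mul, hord, one_pow]
    have hai : ι a * ι (Q.coeff 0) = 1 := by rw [← map_mul, hdet, map_one]
    calc ρ ^ k = ρ ^ k * (ι a * ι (Q.coeff 0)) ^ k := by rw [hai, one_pow, mul_one]
      _ = ρ ^ (k * (q + 2)) * ι (a ^ k) := by
          rw [mul_pow, ← hnorm, map_pow, mul_pow, ← pow_mul]; ring
      _ = ι (a ^ k) := by rw [hone, one_mul]
  have hQdvd : Q ∣ X ^ k - C (a ^ k) := by
    rw [← AdjoinRoot.mk_eq_zero, map_sub, map_pow, AdjoinRoot.mk_X, AdjoinRoot.mk_C,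
      ← AdjoinRoot.algebraMap_eq, hρk, sub_self]
  have hco : IsCoprime (X - C a) Q := (irreducible_X_sub_C a).coprime_iff_not_dvd.2 fun h => by
    have := natDegree_eq_of_degree_eq
      (degree_eq_degree_of_associated ((irreducible_X_sub_C a).associated_of_dvd hQi h))
    rw [natDegree_X_sub_C, hQd] at this
    omega
  exact hco.mul_dvd (dvd_iff_isRoot.2 (by simp)) hQdvd

/-- A repeated root. -/
theorem repeated_dvd (p : ℕ) [Fact p.Prime] [CharP F p] {a b : F} (hab : a * a * b = 1) :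
    (X - C a) * (X - C a) * (X - C b) ∣
        X ^ (p * ((q - 1) / d)) - C (a ^ (p * ((q - 1) / d))) ∨
      (p = 2 ∧ (X - C a) * (X - C a) * (X - C b) ∣ X ^ 4 - C (a ^ 4)) := by
  have hp : p.Prime := Fact.out
  have ha : a ≠ 0 := by rintro rfl; simp at hab
  set j := (q - 1) / d
  have hpdvd : ∀ c : F, (X - C c) ^ p ∣ X ^ (p * j) - C (c ^ (p * j)) := fun c => by
    rw [sub_pow_char]
    simp only [map_pow, pow_mul]
    exact sub_dvd_pow_sub_pow _ _ j
  by_cases hne : a = b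
  · subst hne
    rcases hp.eq_two_or_odd with hp2 | hodd
    · refine Or.inr ⟨hp2, ?_⟩
      subst hp2
      have h : (X - C a : F[X]) ^ (2 ^ 2) = X ^ (2 ^ 2) - C a ^ (2 ^ 2) :=
        sub_pow_char_pow _ _ _
      have h4 : (2 : ℕ) ^ 2 = 4 := rfl
      rw [h4] at h
      rw [map_pow, ← h]
      exact Dvd.intro (X - C a) (by ring)
    · left
      refine dvd_trans ?_ (hpdvd a)
      have h3 : 3 ≤ p := by have := hp.two_le; omega
      exact dvd_trans (dvd_of_eq (by ring)) (pow_dvd_pow _ h3)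
  · left
    have hbk : b ^ (p * j) = a ^ (p * j) := by
      have h3 : a ^ (3 * j) = 1 := pow_three_mul_div ha
      calc b ^ (p * j) = (a ^ (3 * j)) ^ p * b ^ (p * j) := by rw [h3, one_pow, one_mul]
        _ = (a * a * b) ^ (p * j) * a ^ (p * j) := by rw [← pow_mul]; ring
        _ = a ^ (p * j) := by rw [hab, one_pow, one_mul]
    have hco : IsCoprime ((X - C a) * (X - C a)) (X - C b) :=
      (isCoprime_X_sub_C_of_isUnit_sub (sub_ne_zero.2 hne).isUnit).mul_left
        (isCoprime_X_sub_C_of_isUnit_sub (sub_ne_zero.2 hne).isUnit)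
    refine hco.mul_dvd ?_ (dvd_iff_isRoot.2 (by simp [hbk]))
    exact (dvd_trans (dvd_of_eq (sq _).symm) (pow_dvd_pow _ hp.two_le)).trans (hpdvd a)

theorem classify (p : ℕ) [Fact p.Prime] [CharP F p] (M : SL) :
    let o := orderOf (QuotientGroup.mk M : PSL)
    o ∣ (q ^ 2 + q + 1) / d ∨ o ∣ (q ^ 2 - 1) / d ∨ o ∣ q - 1 ∨ o ∣ p * (q - 1) / d ∨
      (p = 2 ∧ o ∣ 4) := by
  intro o
  set A := (M : Matrix (Fin 3) (Fin 3) F)
  set f := A.charpoly with hf
  have hfm : f.Monic := A.charpoly_monic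
  have hfd : f.natDegree = 3 := by rw [hf, Matrix.charpoly_natDegree_eq_dim, Fintype.card_fin]
  have hf0 : f.coeff 0 = -1 := by
    have h := Matrix.det_eq_sign_charpoly_coeff A
    rw [show A.det = 1 from M.prop, ← hf, Fintype.card_fin] at h
    linear_combination h
  by_cases hroot : ∃ a, f.IsRoot a
  swap
  · left
    have hirr : Irreducible f := by
      refine irreducible_of_degree_le_three_of_not_isRoot (by rw [hfd]; decide) fun a ha => ?_
      exact hroot ⟨a, ha⟩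
    have : Fact (Irreducible f) := ⟨hirr⟩
    have hφ : aeval A (f ^ 1) = 0 := by rw [pow_one, hf, Matrix.aeval_self_charpoly]
    have hN := PSLOrders.root_pow_cyc_eq_one (M := M) hfm hfd hf
    have hcyc : PSLOrders.cyc q 3 = q ^ 2 + q + 1 := by
      simp [PSLOrders.cyc, Finset.sum_range_succ]; ring
    obtain ⟨ν, hν⟩ := PSLOrders.exists_dvd_X_pow_sub_C (φ := f)
      (k := PSLOrders.cyc q 3 / d) (by
        have h1 : PSLOrders.cyc q 3 / d * (q - 1) = PSLOrders.cyc q 3 * ((q - 1) / d) := by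
          rw [Nat.div_mul_right_comm (PSLOrders.gcd_dvd_cyc _ _ Fintype.card_pos),
            Nat.mul_div_assoc _ (Nat.gcd_dvd_right _ _)]
        rw [h1, pow_mul, hN, one_pow])
    rw [← hcyc]
    simpa using PSLOrders.orderOf_mk_dvd_of_primary p (c := 0) hφ hν (by simp)
  obtain ⟨a, ha⟩ := hroot
  obtain ⟨Q, hQ⟩ := dvd_iff_isRoot.2 ha
  have hQm : Q.Monic := (monic_X_sub_C a).of_mul_monic_left (hQ ▸ hfm)
  have hQd : Q.natDegree = 2 := by
    rw [hQ, natDegree_mul (X_sub_C_ne_zero a) hQm.ne_zero, natDegree_X_sub_C] at hfd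
    omega
  have hQ0 : a * Q.coeff 0 = 1 := by
    rw [hQ, mul_coeff_zero] at hf0
    simp at hf0
    linear_combination hf0
  by_cases hQroot : ∃ b, Q.IsRoot b
  swap
  · right; left
    have hQi : Irreducible Q := by
      refine irreducible_of_degree_le_three_of_not_isRoot (by rw [hQd]; decide) fun b hb => ?_
      exact hQroot ⟨b, hb⟩
    exact orderOf_dvd_of_charpoly_dvd (hQ ▸ mixed_dvd hQm hQd hQi hQ0)
  obtain ⟨b, hb⟩ := hQroot
  obtain ⟨R, hR⟩ := dvd_iff_isRoot.2 hb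
  have hRm : R.Monic := (monic_X_sub_C b).of_mul_monic_left (hR ▸ hQm)
  have hRd : R.natDegree = 1 := by
    rw [hR, natDegree_mul (X_sub_C_ne_zero b) hRm.ne_zero, natDegree_X_sub_C] at hQd
    omega
  obtain ⟨c, hc⟩ : ∃ c, R = X - C c := ⟨-R.coeff 0, by
    rw [hRm.eq_X_add_C hRd]; simp⟩
  have hfac : f = (X - C a) * (X - C b) * (X - C c) := by rw [hQ, hR, hc, mul_assoc]
  have habc : a * b * c = 1 := by
    rw [hfac, mul_coeff_zero, mul_coeff_zero] at hf0
    simp at hf0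
    linear_combination hf0
  have hrep : ∀ a b : F, a * a * b = 1 → f = (X - C a) * (X - C a) * (X - C b) →
      o ∣ p * (q - 1) / d ∨ (p = 2 ∧ o ∣ 4) := by
    intro a b hab hfab
    rw [Nat.mul_div_assoc p (Nat.gcd_dvd_right _ _)]
    rcases repeated_dvd p hab with h | ⟨h2, h⟩
    · exact Or.inl (orderOf_dvd_of_charpoly_dvd (ν := a ^ (p * ((q - 1) / d)))
        (by show f ∣ _; rw [hfab]; exact h))
    · exact Or.inr ⟨h2, orderOf_dvd_of_charpoly_dvd (ν := a ^ 4)
        (by show f ∣ _; rw [hfab]; exact h)⟩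
  by_cases h1 : a = b
  · subst h1
    exact Or.inr (Or.inr (Or.inr (hrep a c habc hfac)))
  by_cases h2 : a = c
  · subst h2
    exact Or.inr (Or.inr (Or.inr (hrep a b (by linear_combination habc) (by rw [hfac]; ring))))
  by_cases h3 : b = c
  · subst h3
    exact Or.inr (Or.inr (Or.inr (hrep b a (by linear_combination habc) (by rw [hfac]; ring))))
  right; right; left
  refine orderOf_dvd_of_charpoly_dvd (ν := 1) ?_
  show f ∣ _
  rw [hfac]
  have hsub : ∀ {x y : F}, x ≠ y → IsCoprime (X - C x) (X - C y) := fun h =>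
    isCoprime_X_sub_C_of_isUnit_sub (sub_ne_zero.2 h).isUnit
  have hdvd : ∀ x : F, x ≠ 0 → X - C x ∣ X ^ (q - 1) - C (1 : F) := fun x hx => by
    refine dvd_iff_isRoot.2 ?_
    simp [FiniteField.pow_card_sub_one_eq_one _ hx]
  have hne : a ≠ 0 ∧ b ≠ 0 ∧ c ≠ 0 := by
    refine ⟨?_, ?_, ?_⟩ <;> · intro h; subst h; simp at habc
  exact ((hsub h2).mul_left (hsub h3)).mul_dvd
    ((hsub h1).mul_dvd (hdvd a hne.1) (hdvd b hne.2.1)) (hdvd c hne.2.2)

omit [Fintype F] in
theorem exists_scalar_pow (M : SL) : ∃ s : F, s ^ 3 = 1 ∧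
    (M : Matrix (Fin 3) (Fin 3) F) ^ orderOf (QuotientGroup.mk M : PSL) = s • 1 := by
  have hc : M ^ orderOf (QuotientGroup.mk M : PSL) ∈ Subgroup.center SL := by
    rw [← QuotientGroup.eq_one_iff, QuotientGroup.mk_pow, pow_orderOf_eq_one]
  obtain ⟨s, hs, hM⟩ := PSLOrders.exists_scalar_of_mem_center hc
  rw [PrimeGraph.mk_map_pow] at hM
  exact ⟨s, hs, hM⟩

theorem exists_split : ∃ g : PSL, q - 1 ∣ orderOf g := by
  obtain ⟨u, hu⟩ := IsCyclic.exists_generator (α := Fˣ)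
  have huo : orderOf u = q - 1 := by
    rw [orderOf_eq_card_of_forall_mem_zpowers hu, Nat.card_units, Nat.card_eq_fintype_card]
  let M : SL := ⟨Matrix.diagonal ![(u : F), (u : F)⁻¹, 1], by
    rw [Matrix.det_diagonal, Fin.prod_univ_three]; simp⟩
  refine ⟨QuotientGroup.mk M, ?_⟩
  obtain ⟨s, -, hM⟩ := exists_scalar_pow M
  change Matrix.diagonal ![(u : F), (u : F)⁻¹, 1] ^ _ = _ at hM
  rw [Matrix.diagonal_pow, Matrix.smul_one_eq_diagonal] at hM
  have h0 := congrFun (Matrix.diagonal_injective hM) 0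
  have h2 := congrFun (Matrix.diagonal_injective hM) 2
  simp at h0 h2
  rw [← huo]
  apply orderOf_dvd_of_pow_eq_one
  apply Units.ext
  rw [Units.val_pow_eq_pow_val, Units.val_one, h0, h2]

theorem exists_mixed : ∃ g : PSL, (q ^ 2 - 1) / d ∣ orderOf g := by
  obtain ⟨p, hp⟩ := CharP.exists F
  have : Fact p.Prime := ⟨CharP.char_is_prime F p⟩
  let K := FiniteField.Extension F p 2
  have : Finite K := Module.finite_of_finite F
  obtain ⟨f, hf, hdet⟩ := exists_unitsHom_of_extension F K (FiniteField.finrank_extension F p 2)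
  obtain ⟨g, hg⟩ := IsCyclic.exists_generator (α := Kˣ)
  have hcard : orderOf g = q ^ 2 - 1 := by
    rw [orderOf_eq_card_of_forall_mem_zpowers hg, Nat.card_units, FiniteField.natCard_extension,
      Nat.card_eq_fintype_card]
  have hA0 : (f g).det ≠ 0 := by rw [hdet]; exact Algebra.norm_ne_zero_iff.2 g.ne_zero
  obtain ⟨φ, hφ, hφdet, hφs⟩ := PrimeGraph.exists_blocks (F := F) (show 2 + 1 = 3 by rfl)
  let M : SL := ⟨φ (f g, (f g).det⁻¹ • 1), by
    rw [hφdet, Matrix.det_smul, Fintype.card_fin, pow_one, Matrix.det_one, mul_one,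
      mul_inv_cancel₀ hA0]⟩
  refine ⟨QuotientGroup.mk M, ?_⟩
  obtain ⟨s, hs, hM⟩ := exists_scalar_pow M
  set o := orderOf (QuotientGroup.mk M : PSL)
  change φ (f g, (f g).det⁻¹ • 1) ^ o = _ at hM
  rw [← map_pow, ← hφs s] at hM
  have hpair := hφ hM
  simp only [Prod.pow_mk, Prod.mk.injEq] at hpair
  have hs0 : s ≠ 0 := by rintro rfl; simp at hs
  have hsd : s ^ d = 1 := pow_gcd_eq_one.2 ⟨hs, FiniteField.pow_card_sub_one_eq_one _ hs0⟩
  rw [Nat.div_dvd_iff_dvd_mul ((Nat.gcd_dvd_right 3 _).trans (Nat.sub_one_dvd_pow_sub_one q 2))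
    (Nat.gcd_pos_of_pos_left _ (by norm_num)), ← hcard, ← orderOf_injective f hf]
  apply orderOf_dvd_of_pow_eq_one
  rw [Nat.mul_comm, pow_mul, hpair.1, _root_.smul_pow, one_pow, hsd, one_smul]

theorem exists_unip_torus (p : ℕ) [Fact p.Prime] [CharP F p] :
    ∃ g : PSL, p * (q - 1) / d ∣ orderOf g := by
  obtain ⟨u, hu⟩ := IsCyclic.exists_generator (α := Fˣ)
  have huo : orderOf u = q - 1 := by
    rw [orderOf_eq_card_of_forall_mem_zpowers hu, Nat.card_units, Nat.card_eq_fintype_card]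
  let J : Matrix (Fin 2) (Fin 2) F := 1 + RegUnip.shiftMat 2 F
  have hJd : J.det = 1 := RegUnip.det_one_add_shiftMat 2
  have hJo : p ∣ orderOf J := by
    simpa using PSLOrders.regUnip_order (F := F) p (k := 2) (c := 1) (Or.inr (by norm_num))
  obtain ⟨φ, hφ, hφdet, hφs⟩ := PrimeGraph.exists_blocks (F := F) (show 2 + 1 = 3 by rfl)
  let M : SL := ⟨φ ((u : F) • J, (((u : F)⁻¹) ^ 2) • 1), by
    rw [hφdet, Matrix.det_smul, hJd, Matrix.det_smul, Fintype.card_fin, Fintype.card_fin,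
      pow_one, Matrix.det_one, mul_one, mul_one, ← mul_pow, mul_inv_cancel₀ u.ne_zero, one_pow]⟩
  refine ⟨QuotientGroup.mk M, ?_⟩
  obtain ⟨s, -, hM⟩ := exists_scalar_pow M
  set o := orderOf (QuotientGroup.mk M : PSL)
  change φ ((u : F) • J, (((u : F)⁻¹) ^ 2) • 1) ^ o = _ at hM
  rw [← map_pow, ← hφs s] at hM
  have hpair := hφ hM
  simp only [Prod.pow_mk, Prod.mk.injEq, _root_.smul_pow, one_pow] at hpair
  obtain ⟨hpJ, hpD⟩ := hpair
  have hum : (u : F) ^ o ≠ 0 := pow_ne_zero _ u.ne_zero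
  have hJs : J ^ o = (((u : F) ^ o)⁻¹ * s) • (1 : Matrix (Fin 2) (Fin 2) F) := by
    rw [mul_smul, ← hpJ, smul_smul, inv_mul_cancel₀ hum, one_smul]
  have hs1 := PSLOrders.eq_one_of_regUnip_pow_eq_scalar (by norm_num) hJs
  rw [hs1, one_smul] at hJs
  rw [inv_mul_eq_one₀ hum] at hs1
  have hpo : p ∣ o := hJo.trans (orderOf_dvd_of_pow_eq_one hJs)
  have hw := congrFun (congrFun hpD 0) 0
  simp at hw
  have h3 : (u : F) ^ (3 * o) = 1 := by
    calc (u : F) ^ (3 * o) = ((u : F) ^ 2) ^ o * (u : F) ^ o := by ring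
      _ = ((u : F) ^ 2) ^ o * (((u : F)⁻¹) ^ 2) ^ o := by rw [inv_pow, inv_pow, hw, ← hs1]
      _ = 1 := by rw [← mul_pow, ← mul_pow, mul_inv_cancel₀ u.ne_zero, one_pow, one_pow]
  have hq : (q - 1) / d ∣ o := by
    rw [Nat.div_dvd_iff_dvd_mul (Nat.gcd_dvd_right 3 _)
      (Nat.gcd_pos_of_pos_left _ (by norm_num)), ← huo]
    apply orderOf_dvd_of_pow_eq_one
    apply Units.ext
    rw [Units.val_pow_eq_pow_val, Units.val_one, huo]
    exact pow_gcd_mul u.ne_zero h3
  rw [Nat.mul_div_assoc p (Nat.gcd_dvd_right _ _)]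
  refine Nat.Coprime.mul_dvd_of_dvd_of_dvd ?_ hpo hq
  refine Nat.Coprime.coprime_dvd_right (Nat.div_dvd_of_dvd (Nat.gcd_dvd_right _ _)) ?_
  rw [(Fact.out : p.Prime).coprime_iff_not_dvd]
  intro h
  obtain ⟨f, -, hf⟩ := FiniteField.card F p
  have h' := Nat.dvd_sub (hf ▸ dvd_pow_self p f.pos.ne' : p ∣ q) h
  rw [Nat.sub_sub_self Fintype.card_pos] at h'
  exact (Fact.out : p.Prime).one_lt.ne' (Nat.dvd_one.1 h')

theorem exists_four [CharP F 2] : ∃ g : PSL, 4 ∣ orderOf g := by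
  let M : SL := ⟨1 + RegUnip.shiftMat 3 F, RegUnip.det_one_add_shiftMat 3⟩
  refine ⟨QuotientGroup.mk M, ?_⟩
  obtain ⟨s, -, hM⟩ := exists_scalar_pow M
  set o := orderOf (QuotientGroup.mk M : PSL)
  change (1 + RegUnip.shiftMat 3 F) ^ o = _ at hM
  rw [PSLOrders.eq_one_of_regUnip_pow_eq_scalar (by norm_num) hM, one_smul] at hM
  have := PSLOrders.regUnip_order (F := F) 2 (k := 3) (c := 2) (Or.inr (by norm_num))
  exact this.trans (orderOf_dvd_of_pow_eq_one hM)

end CfsgLib.SpecLin.PSLThree
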