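import Mathlib
import Cfsg.Agent.Lib.SpecLin.SLTwoTrace
import Cfsg.Agent.Lib.SpecLin.PSLClass

/-!
Products of two conjugates in PSL_2 by traces.
-/

set_option autoImplicit false

namespace CfsgLib.SpecLin.SLTwo

open Matrix

variable {F : Type*} [Field F] [Fintype F]

local notation "SL2" => Matrix.SpecialLinearGroup (Fin 2) F
local notation "M2" => Matrix (Fin 2) (Fin 2) F
local notation "PSL2" => Matrix.ProjectiveSpecialLinearGroup (Fin 2) F

/-- If the conic of trace `a` elements `M` with `trace (M⁻¹ C_t) = a` has a point, then the element with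
trace `t` is a product of two conjugates of the element with trace `a`. -/
theorem exists_product_of_point {X Z : SL2} (ha : (2 : F) = 0 ∨ (X : M2).trace ^ 2 ≠ 4)
    (hX : ∀ s : F, (X : M2) ≠ s • 1) (hX0 : (X : M2).trace ≠ 0) (hZ : ∀ s : F, (Z : M2) ≠ s • 1)
    (hpt : ∃ x y : F, y * y + ((X : M2).trace - x * (Z : M2).trace) * y +
      (x * x - (X : M2).trace * x + 1) = 0) :
    ∃ u v : PSL2, QuotientGroup.mk Z =
      (u * QuotientGroup.mk X * u⁻¹) * (v * QuotientGroup.mk X * v⁻¹) := by
  set a := (X : M2).trace with haX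
  set t := (Z : M2).trace with htZ
  obtain ⟨x, y, hxy⟩ := hpt
  let z := a + y - x * t
  let M : M2 := !![x, y; z, a - x]
  let N : M2 := !![a - x, -y; -z, x] * comp t
  have hdM : M.det = 1 := by
    simp [M, z, Matrix.det_fin_two]
    linear_combination -hxy
  have htM : M.trace = a := by simp [M, Matrix.trace_fin_two]
  have hdN : N.det = 1 := by
    rw [show N = !![a - x, -y; -z, x] * comp t from rfl, det_mul, det_comp]
    simp [z, Matrix.det_fin_two]
    linear_combination -hxy
  have htN : N.trace = a := by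
    simp [N, comp, z, Matrix.trace_fin_two, Matrix.mul_apply]
  have hMN : M * N = comp t := by
    have : M * !![a - x, -y; -z, x] = 1 := by
      rw [Matrix.det_fin_two] at hdM
      simp [M] at hdM
      ext i j
      fin_cases i <;> fin_cases j <;> simp [M, Matrix.mul_apply]
      · linear_combination hdM
      · ring
      · ring
      · linear_combination hdM
    rw [show N = !![a - x, -y; -z, x] * comp t from rfl, ← mul_assoc, this, one_mul]
  have hns : ∀ T : M2, T.det = 1 → T.trace = a → ∀ s : F, T ≠ s • 1 := by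
    intro T hd ht s hs
    have h4 := exists_trace_sq_iff hs hd
    rw [ht] at h4
    rcases ha with h2 | ha
    · exact hX0 (pow_eq_zero_iff two_ne_zero |>.1 (h4.trans (by linear_combination (2 : F) * h2)))
    · exact ha h4
  obtain ⟨P, hP, hPZ⟩ := similar_comp Z.prop hZ
  refine psl_product_of_similar (x := X) (Z := Z) (M := M) (N := N) hP (by rw [hPZ, ← htZ, hMN]) ?_ ?_ ?_
  · rintro T hTd ⟨R, hR, hRT⟩
    have hTs : Similar T (X : M2) := ⟨R, hR, hRT⟩
    let T' : SL2 := ⟨T, hTd⟩
    have htT : (T' : M2).trace = (X : M2).trace := trace_eq_of_similar hTs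
    obtain ⟨u, hu⟩ := isConj_iff.1 (isConj_of_trace_eq (M := X) (N := T') ha hX
      (hns T hTd htT) htT.symm)
    exact ⟨u, by rw [show T = (T' : M2) from rfl, ← hu]; simp⟩
  · exact similar_of_trace_eq hdM X.prop (hns M hdM htM) hX (by rw [htM])
  · exact similar_of_trace_eq hdN X.prop (hns N hdN htN) hX (by rw [htN])

omit [Fintype F] in
/-- Lift of an element other than 1 is not scalar. -/
theorem not_scalar_of_mk_ne_one {Z : SL2} (h : (QuotientGroup.mk Z : PSL2) ≠ 1) :
    ∀ s : F, (Z : M2) ≠ s • 1 :=
  not_scalar_of_notMem_center fun hc => h ((QuotientGroup.eq_one_iff Z).2 hc)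

/-- Every element of PSL_2 has a lift `Z` of trace not equal to 2 in odd characteristic. -/
theorem exists_lift_trace_ne_two (h2 : (2 : F) ≠ 0) (g : PSL2) :
    ∃ Z : SL2, QuotientGroup.mk Z = g ∧ (Z : M2).trace ≠ 2 := by
  obtain ⟨Z, rfl⟩ := QuotientGroup.mk_surjective g
  by_cases h : (Z : M2).trace = 2
  · refine ⟨-Z, ?_, ?_⟩
    · rw [QuotientGroup.eq]
      rw [mem_center_iff']
      right
      rw [Matrix.SpecialLinearGroup.coe_mul, Matrix.SpecialLinearGroup.coe_inv,
        Matrix.SpecialLinearGroup.coe_neg, show -(Z : M2) = (-1 : F) • (Z : M2) by simp,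
        Matrix.adjugate_smul]
      simp [Matrix.adjugate_mul]
    · rw [Matrix.SpecialLinearGroup.coe_neg, Matrix.trace_neg, h]
      intro h'
      exact h2 (by
        have : (2 : F) * 2 = 0 := by linear_combination -h'
        exact mul_self_eq_zero.1 this)
  · exact ⟨Z, rfl, h⟩

end CfsgLib.SpecLin.SLTwo
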