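import Mathlib
import Cfsg.Prelude.Def_Classical

/-!
The hyperbolic form over a field of two elements: common fixers of two totally singular subspaces.
-/

set_option autoImplicit false

namespace CfsgLib.SpecLin.PlusFormTwo

open Matrix

variable {F : Type*} [Field F] {m : ℕ}

/-- the vector space -/
abbrev V (F : Type*) (m : ℕ) : Type _ := Fin m ⊕ Fin m → F

/-- the polar form -/
def polar : LinearMap.BilinForm F (V F m) :=
  LinearMap.mk₂ F (fun v w => ∑ i, (v (Sum.inl i) * w (Sum.inr i) + v (Sum.inr i) * w (Sum.inl i)))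
    (fun v v' w => by
      simp only [Pi.add_apply, ← Finset.sum_add_distrib]
      exact Finset.sum_congr rfl fun i _ => by ring)
    (fun c v w => by
      simp only [Pi.smul_apply, smul_eq_mul, Finset.mul_sum]
      exact Finset.sum_congr rfl fun i _ => by ring)
    (fun v w w' => by
      simp only [Pi.add_apply, ← Finset.sum_add_distrib]
      exact Finset.sum_congr rfl fun i _ => by ring)
    (fun c v w => by
      simp only [Pi.smul_apply, smul_eq_mul, Finset.mul_sum]
      exact Finset.sum_congr rfl fun i _ => by ring)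

theorem polar_comm (v w : V F m) : polar v w = polar w v := by
  simp only [polar, LinearMap.mk₂_apply]
  exact Finset.sum_congr rfl fun i _ => by ring

theorem polar_isRefl : (polar : LinearMap.BilinForm F (V F m)).IsRefl := fun x y h => by
  rwa [polar_comm]

theorem polar_single_inl (v : V F m) (i : Fin m) :
    polar v (Pi.single (Sum.inl i) 1) = v (Sum.inr i) := by
  simp [polar, LinearMap.mk₂_apply, Pi.single_apply]

theorem polar_single_inr (v : V F m) (i : Fin m) :
    polar v (Pi.single (Sum.inr i) 1) = v (Sum.inl i) := by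
  simp [polar, LinearMap.mk₂_apply, Pi.single_apply]

theorem polar_left_eq_zero {v : V F m} (h : ∀ w, polar v w = 0) : v = 0 := by
  funext s
  rcases s with i | i
  · simpa [polar_single_inr] using h (Pi.single (Sum.inr i) 1)
  · simpa [polar_single_inl] using h (Pi.single (Sum.inl i) 1)

theorem quad_add (v w : V F m) :
    Cfsg.quadFormPlus m F (v + w) = Cfsg.quadFormPlus m F v + Cfsg.quadFormPlus m F w + polar v w := by
  simp only [Cfsg.quadFormPlus, polar, LinearMap.mk₂_apply, ← Finset.sum_add_distrib, Pi.add_apply]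
  exact Finset.sum_congr rfl fun i _ => by ring

theorem quad_smul (c : F) (v : V F m) :
    Cfsg.quadFormPlus m F (c • v) = c ^ 2 * Cfsg.quadFormPlus m F v := by
  simp only [Cfsg.quadFormPlus, Finset.mul_sum, Pi.smul_apply, smul_eq_mul]
  exact Finset.sum_congr rfl fun i _ => by ring

/-- totally singular subspace -/
def TotSing (W : Submodule F (V F m)) : Prop := ∀ v ∈ W, Cfsg.quadFormPlus m F v = 0

theorem TotSing.polar_eq_zero {W : Submodule F (V F m)} (h : TotSing W) {v w : V F m}
    (hv : v ∈ W) (hw : w ∈ W) : polar v w = 0 := by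
  have := quad_add v w
  rw [h _ (add_mem hv hw), h _ hv, h _ hw, add_zero, zero_add] at this
  exact this.symm

theorem finrank_orth (W : Submodule F (V F m)) :
    Module.finrank F W + Module.finrank F ((polar : LinearMap.BilinForm F (V F m)).orthogonal W) =
      2 * m := by
  have h := LinearMap.BilinForm.finrank_add_finrank_orthogonal polar_isRefl W
  rw [h]
  have hbot : (polar : LinearMap.BilinForm F (V F m)).orthogonal ⊤ = ⊥ := by
    rw [eq_bot_iff]
    intro v hv
    exact polar_left_eq_zero fun w => by rw [polar_comm]; exact hv w trivial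
  rw [hbot, inf_bot_eq]
  simp [two_mul]

theorem TotSing.finrank_le {W : Submodule F (V F m)} (h : TotSing W) : Module.finrank F W ≤ m := by
  have hle : W ≤ (polar : LinearMap.BilinForm F (V F m)).orthogonal W := fun v hv w hw =>
    h.polar_eq_zero hw hv
  have := Submodule.finrank_mono hle
  have := finrank_orth W
  omega

/-- the isometry given by an involutive linear map preserving the form -/
theorem exists_isometry (T : V F m →ₗ[F] V F m) (hT : ∀ v, T (T v) = v)
    (hQ : ∀ v, Cfsg.quadFormPlus m F (T v) = Cfsg.quadFormPlus m F v) :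
    ∃ g : Cfsg.isometryGroup F (Cfsg.quadFormPlus m F),
      ∀ v, ((g : GL (Fin m ⊕ Fin m) F) : Matrix _ _ F) *ᵥ v = T v := by
  have hTT : LinearMap.toMatrix' T * LinearMap.toMatrix' T = 1 := by
    rw [← LinearMap.toMatrix'_mul]
    rw [show T * T = 1 from LinearMap.ext hT, LinearMap.toMatrix'_one]
  refine ⟨⟨⟨LinearMap.toMatrix' T, LinearMap.toMatrix' T, hTT, hTT⟩, fun u v => ?_⟩, fun v => ?_⟩
  · change Cfsg.quadFormPlus m F (LinearMap.toMatrix' T *ᵥ u) = _
    rw [LinearMap.toMatrix'_mulVec, hQ]
  · change LinearMap.toMatrix' T *ᵥ v = _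
    rw [LinearMap.toMatrix'_mulVec]

/-- Two totally singular subspaces of dimension `m - 1` have a nontrivial common pointwise fixer. -/
theorem exists_common_fixer [Fintype F] (hF : Fintype.card F = 2) (W W' : Submodule F (V F m))
    (hW : TotSing W) (hW' : TotSing W') (hd : Module.finrank F W + 1 = m)
    (hd' : Module.finrank F W' + 1 = m) :
    ∃ g : Cfsg.isometryGroup F (Cfsg.quadFormPlus m F), g ≠ 1 ∧
      (∀ v ∈ W, ((g : GL (Fin m ⊕ Fin m) F) : Matrix _ _ F) *ᵥ v = v) ∧
      ∀ v ∈ W', ((g : GL (Fin m ⊕ Fin m) F) : Matrix _ _ F) *ᵥ v = v := by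
  classical
  have : Fact (Nat.Prime 2) := ⟨Nat.prime_two⟩
  have hc : CharP F 2 := charP_of_card_eq_prime hF
  set S := (polar : LinearMap.BilinForm F (V F m)).orthogonal (W ⊔ W') with hS
  have key : ∀ T : V F m →ₗ[F] V F m, (∀ v, T (T v) = v) →
      (∀ v, Cfsg.quadFormPlus m F (T v) = Cfsg.quadFormPlus m F v) → (∃ v, T v ≠ v) →
      (∀ v ∈ W, T v = v) → (∀ v ∈ W', T v = v) →
      ∃ g : Cfsg.isometryGroup F (Cfsg.quadFormPlus m F), g ≠ 1 ∧
      (∀ v ∈ W, ((g : GL (Fin m ⊕ Fin m) F) : Matrix _ _ F) *ᵥ v = v) ∧
      ∀ v ∈ W', ((g : GL (Fin m ⊕ Fin m) F) : Matrix _ _ F) *ᵥ v = v := by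
    intro T hT hQ hne h1 h2
    obtain ⟨g, hg⟩ := exists_isometry T hT hQ
    refine ⟨g, ?_, fun v hv => (hg v).trans (h1 v hv), fun v hv => (hg v).trans (h2 v hv)⟩
    rintro rfl
    obtain ⟨v, hv⟩ := hne
    exact hv (by rw [← hg v]; simp)
  by_cases hns : ∃ v ∈ S, Cfsg.quadFormPlus m F v ≠ 0
  · -- a reflection
    obtain ⟨v, hvS, hv⟩ := hns
    have hv1 : Cfsg.quadFormPlus m F v = 1 := by
      have := FiniteField.pow_card_sub_one_eq_one _ hv
      simpa [hF] using this
    have hvv : polar v v = 0 := by
      simp only [polar, LinearMap.mk₂_apply]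
      exact Finset.sum_eq_zero fun i _ => by rw [mul_comm, CharTwo.add_self_eq_zero]
    let T : V F m →ₗ[F] V F m := LinearMap.id + (polar v).smulRight v
    have hTv : ∀ x, T x = x + polar v x • v := fun x => rfl
    refine key T (fun x => ?_) (fun x => ?_) ?_ (fun x hx => ?_) (fun x hx => ?_)
    · rw [hTv, hTv, map_add, map_smul, hvv, smul_zero, add_zero, add_assoc, ← add_smul,
        CharTwo.add_self_eq_zero, zero_smul, add_zero]
    · rw [hTv, quad_add, quad_smul, hv1, map_smul, smul_eq_mul, polar_comm x v]
      linear_combination CharTwo.add_self_eq_zero (polar v x * polar v x)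
    · have hv0 : v ≠ 0 := by
        rintro rfl
        exact hv (by simp [Cfsg.quadFormPlus])
      obtain ⟨w, hw⟩ : ∃ w, polar v w ≠ 0 := by
        by_contra h
        push Not at h
        exact hv0 (polar_left_eq_zero h)
      exact ⟨w, by rw [hTv]; simp [hw, hv0]⟩
    · rw [hTv, polar_comm, hvS x (Submodule.mem_sup_left hx), zero_smul, add_zero]
    · rw [hTv, polar_comm, hvS x (Submodule.mem_sup_right hx), zero_smul, add_zero]
  · push Not at hns
    have hSts : TotSing S := hns
    -- two distinct singular vectors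
    have hWS : ∀ U : Submodule F (V F m), (U = W ∨ U = W') → TotSing (U ⊔ S) := by
      intro U hU v hv
      obtain ⟨a, ha, b, hb, rfl⟩ := Submodule.mem_sup.1 hv
      have hab : polar a b = 0 := hb a (by
        rcases hU with rfl | rfl
        · exact Submodule.mem_sup_left ha
        · exact Submodule.mem_sup_right ha)
      rw [quad_add, hab, hSts b hb]
      rcases hU with rfl | rfl
      · rw [hW a ha]; simp
      · rw [hW' a ha]; simp
    have h1 := (hWS W (Or.inl rfl)).finrank_le
    have h2 := (hWS W' (Or.inr rfl)).finrank_le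
    have e1 := Submodule.finrank_sup_add_finrank_inf_eq W S
    have e2 := Submodule.finrank_sup_add_finrank_inf_eq W' S
    have e3 : Module.finrank F ↥(W ⊔ W') + Module.finrank F S = 2 * m := finrank_orth (W ⊔ W')
    have e4 := Submodule.finrank_sup_add_finrank_inf_eq W W'
    obtain ⟨a, ha, b, hb, ha0, hb0, hab⟩ :
        ∃ a ∈ W ⊓ S, ∃ b ∈ W' ⊓ S, a ≠ 0 ∧ b ≠ 0 ∧ a ≠ b := by
      by_contra hcon
      push Not at hcon
      have hpA : 1 ≤ Module.finrank F ↥(W ⊓ S) := by omega
      have hpB : 1 ≤ Module.finrank F ↥(W' ⊓ S) := by omega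
      obtain ⟨a, ha, ha0⟩ := Submodule.exists_mem_ne_zero_of_ne_bot
        (Submodule.one_le_finrank_iff.1 hpA)
      obtain ⟨b, hb, hb0⟩ := Submodule.exists_mem_ne_zero_of_ne_bot
        (Submodule.one_le_finrank_iff.1 hpB)
      have hab : a = b := hcon a ha b hb ha0 hb0
      subst hab
      have hA : W ⊓ S ≤ Submodule.span F {a} := fun x hx => by
        rcases eq_or_ne x 0 with rfl | hx0
        · exact zero_mem _
        · rw [hcon x hx a hb hx0 hb0]; exact Submodule.mem_span_singleton_self a
      have hA1 := (Submodule.finrank_mono hA).trans_eq (finrank_span_singleton ha0)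
      have h3 : 1 ≤ Module.finrank F ↥(W ⊓ W') := by
        rw [Submodule.one_le_finrank_iff]
        intro hbot
        have hmem : a ∈ W ⊓ W' := ⟨ha.1, hb.1⟩
        rw [hbot] at hmem
        exact ha0 hmem
      omega
    have haW : ∀ x, x ∈ W ∨ x ∈ W' → polar x a = 0 ∧ polar x b = 0 := fun x hx => by
      have : x ∈ W ⊔ W' := hx.elim Submodule.mem_sup_left Submodule.mem_sup_right
      exact ⟨ha.2 x this, hb.2 x this⟩
    have habp : polar a b = 0 := (haW a (Or.inl ha.1)).2
    have haa : polar a a = 0 := hW.polar_eq_zero ha.1 ha.1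
    have hbb : polar b b = 0 := hW'.polar_eq_zero hb.1 hb.1
    let T : V F m →ₗ[F] V F m := LinearMap.id + (polar a).smulRight b + (polar b).smulRight a
    have hTv : ∀ x, T x = x + polar a x • b + polar b x • a := fun x => rfl
    refine key T (fun x => ?_) (fun x => ?_) ?_ (fun x hx => ?_) (fun x hx => ?_)
    · have h1 : polar a (T x) = polar a x := by
        rw [hTv, map_add, map_add, map_smul, map_smul, habp, haa]; simp
      have h2 : polar b (T x) = polar b x := by
        rw [hTv, map_add, map_add, map_smul, map_smul, hbb, polar_comm b a, habp]; simp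
      rw [hTv (T x), h1, h2, hTv]
      calc x + polar a x • b + polar b x • a + polar a x • b + polar b x • a
          = x + (polar a x + polar a x) • b + (polar b x + polar b x) • a := by
            rw [add_smul, add_smul]; abel
        _ = x := by rw [CharTwo.add_self_eq_zero, CharTwo.add_self_eq_zero]; simp
    · rw [hTv, quad_add, quad_add, quad_smul, quad_smul, hW a ha.1, hW' b hb.1, map_smul, map_smul,
        map_add, LinearMap.add_apply, map_smul, LinearMap.smul_apply, polar_comm x b, polar_comm x a,
        polar_comm b a, habp]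
      simp only [smul_eq_mul]
      linear_combination CharTwo.add_self_eq_zero (polar a x * polar b x)
    · obtain ⟨w, hw⟩ : ∃ w, polar a w ≠ polar b w := by
        by_contra h
        push Not at h
        exact hab (sub_eq_zero.1 (polar_left_eq_zero fun w => by
          rw [LinearMap.map_sub, LinearMap.sub_apply, h w, sub_self]))
      refine ⟨w, fun h => ?_⟩
      rw [hTv, add_assoc, add_eq_left] at h
      have hval : ∀ z : F, z = 0 ∨ z = 1 := fun z => by
        rcases eq_or_ne z 0 with hz | hz
        · exact Or.inl hz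
        · exact Or.inr (by simpa [hF] using FiniteField.pow_card_sub_one_eq_one _ hz)
      rcases hval (polar a w) with h1 | h1 <;> rcases hval (polar b w) with h2 | h2 <;>
        simp [h1, h2, ha0, hb0] at h hw
    · rw [hTv, polar_comm a x, polar_comm b x, (haW x (Or.inl hx)).1, (haW x (Or.inl hx)).2]
      simp
    · rw [hTv, polar_comm a x, polar_comm b x, (haW x (Or.inr hx)).1, (haW x (Or.inr hx)).2]
      simp

end CfsgLib.SpecLin.PlusFormTwo
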