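import Mathlib

/-!
SL_3(3): every nonidentity element is a product of two elements with characteristic polynomial
`X^3 - X - 1` (elements of order 13).
-/

set_option autoImplicit false

namespace CfsgLib.SpecLin.SingerThree

open Matrix

/-- cofactor matrix, with `x - y` written `x + 2 * y` (characteristic 3) -/
def adjP {R : Type*} [CommSemiring R] (M : Matrix (Fin 3) (Fin 3) R) : Matrix (Fin 3) (Fin 3) R :=
  Matrix.of fun i j =>
    M (j + 1) (i + 1) * M (j + 2) (i + 2) + 2 * (M (j + 1) (i + 2) * M (j + 2) (i + 1))

/-- trace -/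
def trP {R : Type*} [CommSemiring R] (M : Matrix (Fin 3) (Fin 3) R) : R :=
  M 0 0 + M 1 1 + M 2 2

/-- sum of the principal 2-minors -/
def e2P {R : Type*} [CommSemiring R] (M : Matrix (Fin 3) (Fin 3) R) : R :=
  M 0 0 * M 1 1 + M 0 0 * M 2 2 + M 1 1 * M 2 2 +
    2 * (M 0 1 * M 1 0 + M 0 2 * M 2 0 + M 1 2 * M 2 1)

/-- The product of a lower and an upper unitriangular matrix. -/
def lu {R : Type*} [CommSemiring R] (a b c d e f : R) : Matrix (Fin 3) (Fin 3) R :=
  !![1, d, e; a, a * d + 1, a * e + f; b, b * d + c, b * e + c * f + 1]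

/-- trace 0, second coefficient -1 -/
def Ok (M : Matrix (Fin 3) (Fin 3) (ZMod 3)) : Prop := trP M = 0 ∧ e2P M = 2

/-- trace 0, second coefficient -1, on representatives -/
def okN (M : Matrix (Fin 3) (Fin 3) ℕ) : Bool := trP M % 3 == 0 && e2P M % 3 == 2

/-- left factors in base 3 -/
def cands : List ℕ := [2952, 4905, 15512, 17729, 5166, 2502, 12434, 14736, 14712, 9465, 12710, 1002, 10419, 17622, 8250, 2659, 17640, 15462, 19477, 1304, 3355, 4582, 18268, 1725, 15426, 19599, 6138, 4422, 8718, 16395, 5711, 9927, 2226, 13077, 18849, 8220]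

/-- indices of suitable left factors in base 64 -/
def wit : ℕ := 0xf3434c44060892540831461000450445604420c00511403c808910f2943420060c72071850020c128055a15c0c11c25412042c709148a0800ce0461055431100872ca44e1150015081c50450894c81c00d651108a0450c02802c86833c908374900510109c4850484403cb28d08739e14110c6400c205014a10b29b19034448704e0161c430d0da1015033803061c02191600c148c1c65c84c070b2c31c450024e0492cc0c11880051c81060c114c28060b0560c41482944c33440862061418441d00c02072400431425c97c30422840052ce0806580ca2450406cb3420c404f1d000834354e1062810881430cb1060850130443092c709038368b30e00508110c0860440031550095450de2070426400d81923cd0400cc1871080834483c604008905214d1c32c91843021433c90402135c730664428020704958508b08a21e0011911520442090114c225c6d350a30020058109b8d01121c80023c51814cf1891423441c14042891420401921d01090dd3421c210630100548a00f0863090470c801d4450445883cc2c008a8830922c905700a20d7c30421c52002910831461c110e18110035840c2443020c83c74cb04510200331700f0c614904e1053010c010a0890133420c72063cc10204938f1402802c71520c60442ca04850d08514124010644d0872cd2065ce0c40802053430441863802c21442011031c904200538e19128758250040c10338118015804500d24254315004c10a18308114640b003080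

/-- decoding of a matrix written in base 3 -/
def decodeMat (m : ℕ) : Matrix (Fin 3) (Fin 3) ℕ :=
  Matrix.of fun i j => m / 3 ^ (3 * i.val + j.val) % 3

/-- the left factor for the `i`th product -/
def leftN (i : ℕ) : Matrix (Fin 3) (Fin 3) ℕ :=
  decodeMat (cands.getD (wit / 2 ^ (6 * i) % 64) 0)

/-- the `i`th product -/
def luN (i : ℕ) : Matrix (Fin 3) (Fin 3) ℕ :=
  lu (i / 243 % 3) (i / 81 % 3) (i / 27 % 3) (i / 9 % 3) (i / 3 % 3) (i % 3)

/-- the left factor is an inverse-certified good matrix and the right one is good -/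
def chk (i : ℕ) : Bool :=
  i == 0 || (okN (leftN i) && okN (adjP (leftN i) * luN i) &&
    (List.finRange 3).all fun r => (List.finRange 3).all fun s =>
      (leftN i * adjP (leftN i)) r s % 3 == if r = s then 1 else 0)

theorem chk_all : (List.range 729).all chk = true := by decide +kernel

/-- reduction modulo 3 -/
def red : ℕ →+* ZMod 3 := Nat.castRingHom _

theorem map_adjP (M : Matrix (Fin 3) (Fin 3) ℕ) : (adjP M).map red = adjP (M.map red) := by
  ext i j; simp [adjP, red]

theorem ok_map {M : Matrix (Fin 3) (Fin 3) ℕ} (h : okN M = true) : Ok (M.map red) := by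
  simp only [okN, Bool.and_eq_true, beq_iff_eq] at h
  refine ⟨?_, ?_⟩
  · have : trP (M.map red) = red (trP M) := by simp [trP, red]
    rw [this, red, Nat.coe_castRingHom, ← ZMod.natCast_mod, h.1]; rfl
  · have : e2P (M.map red) = red (e2P M) := by simp [e2P, red]
    rw [this, red, Nat.coe_castRingHom, ← ZMod.natCast_mod, h.2]; rfl

theorem exists_factor (a b c d e f : ZMod 3) (h : lu a b c d e f ≠ 1) :
    ∃ M N : Matrix (Fin 3) (Fin 3) (ZMod 3), Ok M ∧ Ok N ∧ M * adjP M = 1 ∧ lu a b c d e f = M * N := by
  set i := 243 * a.val + 81 * b.val + 27 * c.val + 9 * d.val + 3 * e.val + f.val with hi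
  have ha := ZMod.val_lt a; have hb := ZMod.val_lt b; have hc := ZMod.val_lt c
  have hd := ZMod.val_lt d; have he := ZMod.val_lt e; have hf := ZMod.val_lt f
  have hlu : (luN i).map red = lu a b c d e f := by
    have h1 : i / 243 % 3 = a.val := by omega
    have h2 : i / 81 % 3 = b.val := by omega
    have h3 : i / 27 % 3 = c.val := by omega
    have h4 : i / 9 % 3 = d.val := by omega
    have h5 : i / 3 % 3 = e.val := by omega
    have h6 : i % 3 = f.val := by omega
    rw [luN, h1, h2, h3, h4, h5, h6]
    ext r s
    fin_cases r <;> fin_cases s <;> simp [lu, red]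
  have hc := List.all_eq_true.1 chk_all i (List.mem_range.2 (by omega))
  simp only [chk, Bool.or_eq_true, beq_iff_eq, Bool.and_eq_true] at hc
  rcases hc with h0 | ⟨⟨h1, h2⟩, h3⟩
  · refine absurd ?_ h
    rw [← hlu, h0]
    decide
  · refine ⟨(leftN i).map red, (adjP (leftN i) * luN i).map red, ok_map h1, ok_map h2, ?_⟩
    rw [← map_adjP, ← Matrix.map_mul]
    have hinv : (leftN i * adjP (leftN i)).map red = 1 := by
      ext r s
      have hrs := beq_iff_eq.1 (List.all_eq_true.1 (List.all_eq_true.1 h3 r (List.mem_finRange r)) s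
        (List.mem_finRange s))
      rw [Matrix.map_apply, red, Nat.coe_castRingHom, ← ZMod.natCast_mod, hrs]
      rw [Matrix.one_apply]; split_ifs <;> simp
    refine ⟨hinv, ?_⟩
    rw [← Matrix.map_mul, ← mul_assoc, Matrix.map_mul, hinv, one_mul, hlu]

end CfsgLib.SpecLin.SingerThree
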